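import Cfsg.Agent.Lib.CFun.OffenderCore
import Cfsg.Agent.Lib.Fusion.Sylow
import Mathlib.GroupTheory.QuotientGroup.Basic
import Mathlib.GroupTheory.Sylow

/-!
# Actions of groups without a section of type `S₃`: restrictions, sections and inheritance

`HG G` says that no element of order three is inverted by a conjugation.  It passes to subgroups and
to quotients, and it excludes sections inducing `S₃` on a four-group.
-/

set_option autoImplicit false
set_option linter.style.haveILetI false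

open Subgroup
open CfsgLib.Fusion (conjBy mem_conjBy conj_mem_conjBy conjBy_le_iff conjBy_eq_iff)
open CfsgLib.CFun (delt NoThree fixMod fixOf IsOff mem_fixOf mem_fixMod)

namespace CfsgLib.FourFree

universe u v

section HG

variable {G : Type u} [Group G]

/-- No element of order `3` is inverted by a conjugation. -/
def HG (G : Type u) [Group G] : Prop :=
  ∀ a x : G, x ^ 3 = 1 → a * x * a⁻¹ = x⁻¹ → x = 1

theorem HG.of_injective {G' : Type u} [Group G'] (h : HG G) (f : G' →* G)
    (hf : Function.Injective f) : HG G' := by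
  intro a x hx hax
  apply hf
  rw [map_one]
  exact h (f a) (f x) (by rw [← map_pow, hx, map_one])
    (by rw [← map_inv, ← map_mul, ← map_mul, hax, map_inv])

theorem HG.subgroup (h : HG G) (H : Subgroup G) : HG H :=
  h.of_injective H.subtype H.subtype_injective

/-- In a group with `HG`, a `2`-element normalizing a `3`-subgroup centralizes it. -/
theorem HG.two_centralizes [Finite G] (h : HG G) {S : Subgroup G} (hS : IsPGroup 3 S) (k : ℕ) :
    ∀ c : G, c ^ (2 ^ k) = 1 → (∀ s ∈ S, c * s * c⁻¹ ∈ S) → ∀ s ∈ S, c * s * c⁻¹ = s := by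
  induction k with
  | zero => intro c hc _ s _; simp only [pow_zero, pow_one] at hc; simp [hc]
  | succ k ih =>
    intro c hc hn s hs
    have h2 := ih (c * c) (by rwa [← pow_two, ← pow_mul, ← pow_succ']) fun t ht => by
      have := hn _ (hn t ht)
      simpa [mul_assoc] using this
    set w := s⁻¹ * (c * s * c⁻¹) with hw
    have hwS : w ∈ S := mul_mem (inv_mem hs) (hn s hs)
    have hcw : c * w * c⁻¹ = w⁻¹ := by
      calc c * w * c⁻¹ = (c * s * c⁻¹)⁻¹ * ((c * c) * s * (c * c)⁻¹) := by rw [hw]; group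
        _ = w⁻¹ := by rw [h2 s hs, hw]; group
    have hw1 : w = 1 := by
      obtain ⟨e, he⟩ := hS ⟨w, hwS⟩
      have hwe : w ^ (3 ^ e) = 1 := by simpa [Subtype.ext_iff] using he
      clear he
      induction e with
      | zero => simpa using hwe
      | succ e ihe =>
        refine ihe (h c _ (by rwa [← pow_mul, ← pow_succ]) ?_)
        rw [← conj_pow, hcw, inv_pow]
    calc c * s * c⁻¹ = s * w := by rw [hw]; group
      _ = s := by rw [hw1, mul_one]

theorem HG.quotient [Finite G] (h : HG G) {G' : Type u} [Group G'] (π : G →* G')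
    (hπ : Function.Surjective π) : HG G' := by
  classical
  intro a' x' hx' hax
  by_contra hne
  have : Finite G' := Finite.of_surjective _ hπ
  haveI : Fact (Nat.Prime 3) := ⟨by decide⟩
  set X := (zpowers x').comap π with hX
  obtain ⟨x, rfl⟩ := hπ x'
  obtain ⟨a, rfl⟩ := hπ a'
  have hxX : x ∈ X := mem_zpowers (π x)
  have haX : conjBy a X ≤ X := conjBy_le_iff.2 fun y hy => by
    obtain ⟨i, hi⟩ := mem_zpowers_iff.1 (show π y ∈ zpowers (π x) from hy)
    refine mem_zpowers_iff.2 ⟨-i, ?_⟩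
    rw [map_mul, map_mul, map_inv, ← hi, ← conj_zpow, hax, inv_zpow, zpow_neg]
  obtain ⟨S, -, hSX, hS, hSi⟩ := CfsgLib.Fusion.exists_le_not_dvd_relIndex
    (p := 3) (IsPGroup.of_bot (p := 3) (G := G)) (bot_le (a := X))
  -- the image of `S` is the whole group of order three
  have hord : orderOf (π x) = 3 := orderOf_eq_prime hx' hne
  obtain ⟨s, hsS, hsx⟩ : π x ∈ S.map π := by
    have hle : S.map π ≤ zpowers (π x) := by rintro _ ⟨s, hs, rfl⟩; exact hSX hs
    have hd : ¬ 3 ∣ (S.map π).relIndex (zpowers (π x)) := fun hd => hSi (hd.trans (by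
      rw [show zpowers (π x) = X.map π from (map_comap_eq_self_of_surjective hπ _).symm,
        relIndex_map_map, sup_eq_left.2 (show π.ker ≤ X from fun y hy => by
          show π y ∈ zpowers (π x)
          rw [MonoidHom.mem_ker.1 hy]; exact one_mem _)]
      exact relIndex_dvd_of_le_left X le_sup_left))
    have hdd : (S.map π).relIndex (zpowers (π x)) ∣ 3 := by
      rw [← hord, ← Nat.card_zpowers]; exact relIndex_dvd_card _ _
    rcases (Nat.dvd_prime (by decide : Nat.Prime 3)).1 hdd with e | e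
    · exact relIndex_eq_one.1 e (mem_zpowers _)
    · exact absurd (dvd_of_eq e.symm) hd
  -- adjust `a` so that it normalizes `S`
  obtain ⟨y, hy, hyS⟩ := CfsgLib.Fusion.exists_conj_le_of_not_dvd_relIndex hS hSX hSi
    (hS.map (MulAut.conj a).toMonoidHom) ((CfsgLib.Fusion.conjBy_mono hSX).trans haX)
  rw [CfsgLib.Fusion.conjBy_conjBy] at hyS
  set b := y * a with hb
  have hbinv : π b * π x * (π b)⁻¹ = (π x)⁻¹ := by
    obtain ⟨i, hi⟩ := mem_zpowers_iff.1 (show π y ∈ zpowers (π x) from hy)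
    rw [hb, map_mul, mul_inv_rev]
    calc π y * π a * π x * ((π a)⁻¹ * (π y)⁻¹) = π y * (π a * π x * (π a)⁻¹) * (π y)⁻¹ := by group
      _ = (π x)⁻¹ := by rw [hax, ← hi]; group
  obtain ⟨e, m, hm, hem⟩ := Nat.exists_eq_two_pow_mul_odd (orderOf_pos b).ne'
  set c := b ^ m with hc
  have hcinv : π c * π x * (π c)⁻¹ = (π x)⁻¹ := by
    obtain ⟨j, rfl⟩ := hm
    have h2 : ∀ j : ℕ, (π b) ^ (2 * j) * π x * ((π b) ^ (2 * j))⁻¹ = π x := by
      intro j
      induction j with
      | zero => simp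
      | succ j ih =>
        rw [mul_add, pow_add, mul_inv_rev]
        calc (π b) ^ (2 * j) * (π b) ^ (2 * 1) * π x * (((π b) ^ (2 * 1))⁻¹ * ((π b) ^ (2 * j))⁻¹)
            = (π b) ^ (2 * j) * (π b * (π b * π x * (π b)⁻¹) * (π b)⁻¹) * ((π b) ^ (2 * j))⁻¹ := by
              rw [mul_one, pow_two]; group
          _ = _ := by
              rw [hbinv]
              have : π b * (π x)⁻¹ * (π b)⁻¹ = π x := by
                rw [← conj_inv, hbinv, inv_inv]
              rw [this, ih]
    rw [hc, map_pow, pow_succ', mul_inv_rev]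
    calc π b * (π b) ^ (2 * j) * π x * (((π b) ^ (2 * j))⁻¹ * (π b)⁻¹)
        = π b * ((π b) ^ (2 * j) * π x * ((π b) ^ (2 * j))⁻¹) * (π b)⁻¹ := by group
      _ = _ := by rw [h2, hbinv]
  have hbS : b ∈ normalizer (S : Set G) := conjBy_eq_iff.1 (CfsgLib.Fusion.conjBy_eq_of_le hyS)
  have hcS : ∀ t ∈ S, c * t * c⁻¹ ∈ S := fun t ht =>
    (Subgroup.mem_normalizer_iff.1 (pow_mem hbS m) t).1 ht
  have hfix := h.two_centralizes hS e c (by
    rw [hc, ← pow_mul, mul_comm, ← hem, pow_orderOf_eq_one]) hcS s hsS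
  have h1 : (π x)⁻¹ = π x := by
    rw [← hcinv, ← hsx, ← map_inv, ← map_mul, ← map_mul, hfix]
  refine hne ?_
  have h4 : π x * π x = 1 := by rw [mul_eq_one_iff_eq_inv, h1]
  rw [pow_succ, pow_two, h4, one_mul] at hx'
  exact hx'

/-- A group with `HG` has no section inducing `S₃` on a four-group. -/
theorem HG.noThree {V : Type v} [CommGroup V] [Finite G] (h : HG G) (ρ : G →* MulAut V)
    (h2 : ∀ w : V, w * w = 1) : NoThree ρ := by
  rintro ⟨a, b, N, x, y, ha, hb, hN, hxN, hyN, hxyN, hax, hay, hby, hbx⟩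
  have hai : a⁻¹ = a := inv_eq_of_mul_eq_one_right ha
  have hbi : b⁻¹ = b := inv_eq_of_mul_eq_one_right hb
  set g := a * b with hg
  have hinv : a * g * a⁻¹ = g⁻¹ := by
    rw [hg, mul_inv_rev, hai, hbi, ← mul_assoc, ha, one_mul]
  have h3 : ¬ 3 ∣ orderOf g := by
    rintro ⟨k, hk⟩
    have hk0 : 0 < k := Nat.pos_of_ne_zero fun e => (orderOf_pos g).ne' (by rw [hk, e, mul_zero])
    have h1 := h a (g ^ k) (by rw [← pow_mul, mul_comm, ← hk, pow_orderOf_eq_one])
      (by rw [← conj_pow, hinv, inv_pow])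
    have := Nat.le_of_dvd hk0 (orderOf_dvd_of_pow_eq_one h1)
    omega
  -- work modulo `N`
  set q := QuotientGroup.mk' N with hq
  have hker : ∀ w, q w = 1 ↔ w ∈ N := fun w => QuotientGroup.eq_one_iff w
  have hsq : ∀ w : V ⧸ N, w * w = 1 := by
    intro w
    induction w using QuotientGroup.induction_on with
    | _ w => rw [← QuotientGroup.mk_mul, h2, QuotientGroup.mk_one]
  have hd : ∀ {w z : V}, w / z ∈ N → q w = q z := fun {w z} hwz =>
    div_eq_one.1 (by rw [← map_div]; exact (hker _).2 hwz)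
  have hga : ∀ (c : G), (∀ n ∈ N, ρ c n ∈ N) → ∀ w z, q w = q z → q (ρ c w) = q (ρ c z) :=
    fun c hc w z hwz => hd (by
      rw [← map_div]; exact hc _ ((hker _).1 (by rw [map_div, hwz, div_self'])))
  have a1 : q (ρ a x) = q (x * y) := by
    rw [CfsgLib.CFun.delt_apply ρ, map_mul, hd hax, map_mul, mul_comm]
  have a2 : q (ρ a y) = q y := by
    rw [CfsgLib.CFun.delt_apply ρ, map_mul, (hker _).2 hay, one_mul]
  have b1 : q (ρ b y) = q (x * y) := by
    rw [CfsgLib.CFun.delt_apply ρ, map_mul, hd hby, map_mul]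
  have b2 : q (ρ b x) = q x := by
    rw [CfsgLib.CFun.delt_apply ρ, map_mul, (hker _).2 hbx, one_mul]
  have aN : ∀ n ∈ N, ρ a n ∈ N := fun n hn => (hN n hn).1
  have gstep : ∀ w, q (ρ g w) = q (ρ a (ρ b w)) := fun w => by rw [hg, map_mul, MulAut.mul_apply]
  have g1 : q (ρ g x) = q (x * y) := by rw [gstep, hga a aN _ _ b2, a1]
  have g2 : q (ρ g y) = q x := by
    rw [gstep, hga a aN _ _ b1, map_mul, map_mul, a1, a2, map_mul, mul_assoc, hsq, mul_one]
  have g3 : q (ρ g (x * y)) = q y := by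
    rw [map_mul, map_mul, g1, g2, map_mul, mul_comm (q x) (q y), mul_assoc, hsq, mul_one]
  have gN : ∀ n ∈ N, ρ g n ∈ N := fun n hn => by
    rw [hg, map_mul, MulAut.mul_apply]; exact aN _ (hN n hn).2
  have key : ∀ n : ℕ, q (ρ (g ^ n) x) =
      if n % 3 = 0 then q x else if n % 3 = 1 then q (x * y) else q y := by
    intro n
    induction n with
    | zero => simp
    | succ n ih =>
      have e : q (ρ (g ^ (n + 1)) x) = q (ρ g (ρ (g ^ n) x)) := by
        rw [pow_succ', map_mul, MulAut.mul_apply]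
      rw [e]
      rcases (show n % 3 = 0 ∨ n % 3 = 1 ∨ n % 3 = 2 by omega) with hn | hn | hn
      · rw [if_pos hn] at ih
        rw [hga g gN _ _ ih, g1, if_neg (by omega), if_pos (by omega)]
      · rw [if_neg (by omega), if_pos hn] at ih
        rw [hga g gN _ _ ih, g3, if_neg (by omega), if_neg (by omega)]
      · rw [if_neg (by omega), if_neg (by omega)] at ih
        rw [hga g gN _ _ ih, g2, if_pos (by omega)]
  have k1 := key (orderOf g)
  rw [pow_orderOf_eq_one, map_one, MulAut.one_apply, if_neg (fun e => h3 (Nat.dvd_of_mod_eq_zero e))]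
    at k1
  split_ifs at k1
  · exact hyN ((hker _).1 (mul_left_cancel (a := q x) (by rw [← map_mul, ← k1, mul_one])))
  · exact hxyN ((hker _).1 (by rw [map_mul, k1, hsq]))

end HG

section Action

variable {G : Type u} {V : Type v} [Group G] [CommGroup V] (ρ : G →* MulAut V)

/-- The pointwise stabilizer of a subgroup. -/
def ptFix (U : Subgroup V) : Subgroup G where
  carrier := {g | ∀ u ∈ U, ρ g u = u}
  one_mem' := fun u _ => by rw [map_one, MulAut.one_apply]
  mul_mem' := fun {g h} hg hh u hu => by rw [map_mul, MulAut.mul_apply, hh u hu, hg u hu]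
  inv_mem' := fun {g} hg u hu => by
    conv_lhs => rw [← hg u hu]
    rw [← MulAut.mul_apply, ← map_mul, inv_mul_cancel, map_one, MulAut.one_apply]

/-- The setwise stabilizer of a subgroup. -/
def setFix (U : Subgroup V) : Subgroup G where
  carrier := {g | (∀ u ∈ U, ρ g u ∈ U) ∧ ∀ u ∈ U, ρ g⁻¹ u ∈ U}
  one_mem' := ⟨fun u hu => by rwa [map_one, MulAut.one_apply],
    fun u hu => by rwa [inv_one, map_one, MulAut.one_apply]⟩
  mul_mem' := fun {g h} hg hh => ⟨fun u hu => by
      rw [map_mul, MulAut.mul_apply]; exact hg.1 _ (hh.1 u hu),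
    fun u hu => by rw [mul_inv_rev, map_mul, MulAut.mul_apply]; exact hh.2 _ (hg.2 u hu)⟩
  inv_mem' := fun {g} hg => ⟨hg.2, fun u hu => by rw [inv_inv]; exact hg.1 u hu⟩

/-- The subgroup generated by the translates of `W` under `H`. -/
def transl (H : Subgroup G) (W : Subgroup V) : Subgroup V :=
  closure {v | ∃ h ∈ H, ∃ w ∈ W, ρ h w = v}

variable {ρ}

theorem mem_ptFix {U : Subgroup V} {g : G} : g ∈ ptFix ρ U ↔ ∀ u ∈ U, ρ g u = u := Iff.rfl

theorem le_setFix {H : Subgroup G} {U : Subgroup V} (h : ∀ g ∈ H, ∀ u ∈ U, ρ g u ∈ U) :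
    H ≤ setFix ρ U := fun g hg => ⟨h g hg, h _ (inv_mem hg)⟩

theorem apply_mem_of_setFix {U : Subgroup V} {g : G} (h : g ∈ setFix ρ U) {u : V} (hu : u ∈ U) :
    ρ g u ∈ U := h.1 u hu

theorem ptFix_le_setFix (U : Subgroup V) : ptFix ρ U ≤ setFix ρ U :=
  le_setFix fun g hg u hu => by rw [hg u hu]; exact hu

theorem ptFix_mono {U U' : Subgroup V} (h : U ≤ U') : ptFix ρ U' ≤ ptFix ρ U :=
  fun _ hg u hu => hg u (h hu)

theorem conj_mem_ptFix {U : Subgroup V} {g z : G} (hg : g ∈ setFix ρ U) (hz : z ∈ ptFix ρ U) :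
    g * z * g⁻¹ ∈ ptFix ρ U := fun u hu => by
  rw [map_mul, MulAut.mul_apply, map_mul, MulAut.mul_apply, hz _ (hg.2 u hu),
    ← MulAut.mul_apply, ← map_mul, mul_inv_cancel, map_one, MulAut.one_apply]

theorem ptFix_top (hρ : Function.Injective ρ) : ptFix ρ (⊤ : Subgroup V) = ⊥ := by
  refine (Subgroup.eq_bot_iff_forall _).2 fun g hg => hρ (MulEquiv.ext fun u => ?_)
  rw [map_one, MulAut.one_apply]
  exact hg u trivial

theorem apply_inv_apply (g : G) (x : V) : ρ g⁻¹ (ρ g x) = x := by
  rw [← MulAut.mul_apply, ← map_mul, inv_mul_cancel, map_one, MulAut.one_apply]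

theorem apply_apply_inv (g : G) (x : V) : ρ g (ρ g⁻¹ x) = x := by
  rw [← MulAut.mul_apply, ← map_mul, mul_inv_cancel, map_one, MulAut.one_apply]

theorem mem_transl {H : Subgroup G} {W : Subgroup V} {h : G} (hh : h ∈ H) {w : V} (hw : w ∈ W) :
    ρ h w ∈ transl ρ H W :=
  subset_closure ⟨h, hh, w, hw, rfl⟩

theorem le_transl (H : Subgroup G) (W : Subgroup V) : W ≤ transl ρ H W := fun w hw => by
  have := mem_transl (ρ := ρ) H.one_mem hw
  rwa [map_one, MulAut.one_apply] at this

theorem transl_le {H : Subgroup G} {W D : Subgroup V} (h : ∀ g ∈ H, ∀ w ∈ W, ρ g w ∈ D) :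
    transl ρ H W ≤ D :=
  (closure_le _).2 fun _ ⟨g, hg, w, hw, e⟩ => e ▸ h g hg w hw

theorem le_setFix_transl (H : Subgroup G) (W : Subgroup V) :
    H ≤ setFix ρ (transl ρ H W) := by
  refine le_setFix fun g hg => fun u hu => ?_
  have : transl ρ H W ≤ (transl ρ H W).comap (ρ g : V ≃* V).toMonoidHom :=
    transl_le fun h hh w hw => by
      show ρ g (ρ h w) ∈ transl ρ H W
      rw [← MulAut.mul_apply, ← map_mul]
      exact mem_transl (mul_mem hg hh) hw
  exact this hu

theorem mem_ptFix_transl {H : Subgroup G} {W : Subgroup V} {z : G}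
    (h : ∀ g ∈ H, g⁻¹ * z * g ∈ ptFix ρ W) : z ∈ ptFix ρ (transl ρ H W) := by
  intro u hu
  induction hu using closure_induction with
  | mem x hx =>
    obtain ⟨g, hg, w, hw, rfl⟩ := hx
    have := h g hg w hw
    calc ρ z (ρ g w) = ρ g (ρ (g⁻¹ * z * g) w) := by
          simp only [map_mul, MulAut.mul_apply, apply_apply_inv]
      _ = ρ g w := by rw [this]
  | one => rw [map_one]
  | mul x y _ _ hx hy => rw [map_mul, hx, hy]
  | inv x _ hx => rw [map_inv, hx]

theorem mem_fixOf' {B : Subgroup G} {x : V} : x ∈ fixOf ρ B ↔ ∀ b ∈ B, ρ b x = x := mem_fixOf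

theorem le_ptFix_iff {B : Subgroup G} {U : Subgroup V} : B ≤ ptFix ρ U ↔ U ≤ fixOf ρ B :=
  ⟨fun h u hu => mem_fixOf.2 fun _ hb => h hb u hu,
    fun h _ hb u hu => mem_fixOf.1 (h hu) _ hb⟩

/-- A subgroup which is best among its subgroups is an offender on each subgroup of the module. -/
theorem best_restrict [Finite V] [Finite G] {B : Subgroup G}
    (hbest : ∀ B' : Subgroup G, B' ≤ B →
      Nat.card B' * Nat.card (fixOf ρ B') ≤ Nat.card B * Nat.card (fixOf ρ B))
    (U : Subgroup V) :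
    Nat.card U ≤ (ptFix ρ U).relIndex B * Nat.card (U ⊓ fixOf ρ B : Subgroup V) := by
  set B' := B ⊓ ptFix ρ U with hB'
  have hsup : U ⊔ fixOf ρ B ≤ fixOf ρ B' := sup_le
    (fun u hu => mem_fixOf.2 fun b hb => hb.2 u hu)
    (fun u hu => mem_fixOf.2 fun b hb => mem_fixOf.1 hu b hb.1)
  have h1 : (fixOf ρ B).relIndex U * Nat.card (U ⊓ fixOf ρ B : Subgroup V) = Nat.card U := by
    rw [← Subgroup.inf_relIndex_left U, mul_comm, CfsgLib.CFun.card_mul_relIndex' inf_le_left]
  have h2 : Nat.card (fixOf ρ B) * (fixOf ρ B).relIndex U =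
      Nat.card (U ⊔ fixOf ρ B : Subgroup V) := by
    rw [← Subgroup.relIndex_sup_right (H := U), CfsgLib.CFun.card_mul_relIndex' le_sup_right]
  have h3 : Nat.card B' * (ptFix ρ U).relIndex B = Nat.card B := by
    rw [← Subgroup.inf_relIndex_left B, CfsgLib.CFun.card_mul_relIndex' inf_le_left]
  have h4 := hbest B' inf_le_left
  have h5 := Subgroup.card_le_of_le hsup
  rw [← h1]
  refine Nat.mul_le_mul ?_ le_rfl
  refine Nat.le_of_mul_le_mul_left ?_ (Nat.mul_pos (Nat.card_pos (α := B')) (Nat.card_pos (α := fixOf ρ B)))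
  calc Nat.card B' * Nat.card (fixOf ρ B) * (fixOf ρ B).relIndex U
      = Nat.card B' * Nat.card (U ⊔ fixOf ρ B : Subgroup V) := by rw [mul_assoc, h2]
    _ ≤ Nat.card B' * Nat.card (fixOf ρ B') := Nat.mul_le_mul le_rfl h5
    _ ≤ Nat.card B * Nat.card (fixOf ρ B) := h4
    _ = Nat.card B' * Nat.card (fixOf ρ B) * (ptFix ρ U).relIndex B := by rw [← h3]; ring

/-- The image of a subgroup acting faithfully on an invariant subgroup. -/
theorem exists_image [Finite G] (H : Subgroup G) (U : Subgroup V) (hU : H ≤ setFix ρ U) :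
    ∃ (G' : Type u) (_ : Group G') (_ : Finite G') (π : H →* G') (ρ' : G' →* MulAut U),
      Function.Surjective π ∧ Function.Injective ρ' ∧
        ∀ (h : H) (x : U), ((ρ' (π h) x : U) : V) = ρ (h : G) x := by
  let f : H → (U →* U) := fun h =>
    { toFun := fun x => ⟨ρ (h : G) x, (hU h.2).1 x x.2⟩
      map_one' := Subtype.ext (by simp)
      map_mul' := fun x y => Subtype.ext (by simp) }
  let φ : H →* MulAut U :=
    { toFun := fun h => MonoidHom.toMulEquiv (f h) (f h⁻¹)
        (MonoidHom.ext fun x => Subtype.ext (by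
          show ρ ((h⁻¹ : H) : G) (ρ (h : G) x) = x
          rw [Subgroup.coe_inv, apply_inv_apply]))
        (MonoidHom.ext fun x => Subtype.ext (by
          show ρ (h : G) (ρ ((h⁻¹ : H) : G) x) = x
          rw [Subgroup.coe_inv, apply_apply_inv]))
      map_one' := MulEquiv.ext fun x => Subtype.ext (by
        show ρ ((1 : H) : G) x = x
        simp)
      map_mul' := fun g h => MulEquiv.ext fun x => Subtype.ext (by
        show ρ ((g * h : H) : G) x = ρ (g : G) (ρ (h : G) x)
        simp) }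
  exact ⟨H ⧸ φ.ker, inferInstance, inferInstance, QuotientGroup.mk' φ.ker,
    QuotientGroup.kerLift φ, QuotientGroup.mk'_surjective _,
    QuotientGroup.kerLift_injective _, fun h x => rfl⟩

/-- The image of the group acting faithfully on a section of the module. -/
theorem exists_section [Finite G] [Finite V] {P N : Subgroup V}
    (hP : ∀ g, ∀ u ∈ P, ρ g u ∈ P) (hN : ∀ g, ∀ u ∈ N, ρ g u ∈ N) :
    ∃ (W : Type v) (_ : CommGroup W) (_ : Finite W) (q : P →* W) (G' : Type u) (_ : Group G')
      (_ : Finite G') (π : G →* G') (ρ' : G' →* MulAut W),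
      Function.Surjective q ∧ (∀ x : P, q x = 1 ↔ (x : V) ∈ N) ∧ Function.Surjective π ∧
        Function.Injective ρ' ∧
        ∀ (g : G) (x : P), ρ' (π g) (q x) = q ⟨ρ g x, hP g x x.2⟩ := by
  let e : G → (P →* P) := fun g =>
    { toFun := fun x => ⟨ρ g x, hP g x x.2⟩
      map_one' := Subtype.ext (by simp)
      map_mul' := fun x y => Subtype.ext (by simp) }
  have he : ∀ g, N.subgroupOf P ≤ (N.subgroupOf P).comap (e g) := fun g x hx =>
    hN g (x : V) hx
  let m : G → (P ⧸ N.subgroupOf P →* P ⧸ N.subgroupOf P) := fun g =>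
    QuotientGroup.map _ _ (e g) (he g)
  have hm : ∀ g (x : P), m g (QuotientGroup.mk x) = QuotientGroup.mk (e g x) := fun g x => rfl
  have hm1 : ∀ g h, (m g).comp (m h) = m (g * h) := fun g h => MonoidHom.ext fun w => by
    induction w using QuotientGroup.induction_on with
    | _ x =>
      rw [MonoidHom.comp_apply, hm, hm, hm]
      exact congrArg _ (Subtype.ext (by
        show ρ g (ρ h x) = ρ (g * h) x
        simp))
  have hm0 : m 1 = MonoidHom.id _ := MonoidHom.ext fun w => by
    induction w using QuotientGroup.induction_on with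
    | _ x =>
      rw [hm, MonoidHom.id_apply]
      exact congrArg _ (Subtype.ext (by
        show ρ 1 x = x
        simp))
  let φ : G →* MulAut (P ⧸ N.subgroupOf P) :=
    { toFun := fun g => MonoidHom.toMulEquiv (m g) (m g⁻¹)
        (by rw [hm1, inv_mul_cancel, hm0]) (by rw [hm1, mul_inv_cancel, hm0])
      map_one' := MulEquiv.ext fun w => by
        show m 1 w = w
        rw [hm0, MonoidHom.id_apply]
      map_mul' := fun g h => MulEquiv.ext fun w => by
        show m (g * h) w = m g (m h w)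
        rw [← hm1]; rfl }
  exact ⟨P ⧸ N.subgroupOf P, inferInstance, inferInstance, QuotientGroup.mk' _, G ⧸ φ.ker,
    inferInstance, inferInstance, QuotientGroup.mk' φ.ker, QuotientGroup.kerLift φ,
    QuotientGroup.mk'_surjective _, fun x => by
      rw [QuotientGroup.mk'_apply, QuotientGroup.eq_one_iff]; rfl,
    QuotientGroup.mk'_surjective _, QuotientGroup.kerLift_injective _, fun g x => rfl⟩

end Action

section Sylow

variable {G : Type u} [Group G] [Finite G] {p : ℕ} [Fact p.Prime]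

/-- The Frattini argument inside a subgroup. -/
theorem frattini_rel {C S L : Subgroup G} (hS : IsPGroup p S) (hSC : S ≤ C)
    (hi : ¬ p ∣ S.relIndex C) (hLC : ∀ g ∈ L, ∀ x ∈ C, g * x * g⁻¹ ∈ C) {g : G} (hg : g ∈ L) :
    ∃ c ∈ C, c * g ∈ normalizer (S : Set G) := by
  obtain ⟨c, hc, hle⟩ := CfsgLib.Fusion.exists_conj_le_of_not_dvd_relIndex hS hSC hi
    (hS.map (MulAut.conj g).toMonoidHom) (conjBy_le_iff.2 fun x hx => hLC g hg x (hSC hx))
  rw [CfsgLib.Fusion.conjBy_conjBy] at hle
  exact ⟨c, hc, conjBy_eq_iff.1 (CfsgLib.Fusion.conjBy_eq_of_le hle)⟩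

/-- A Sylow subgroup of a subgroup maps onto a Sylow subgroup of an image. -/
theorem exists_sylow_image {H T : Subgroup G} (hT : IsPGroup p T) (hTH : T ≤ H)
    (hi : ¬ p ∣ T.relIndex H) {G' : Type u} [Group G'] [Finite G'] (π : H →* G')
    (hπ : Function.Surjective π) :
    ∃ T' : Sylow p G', (T' : Subgroup G') = (T.subgroupOf H).map π := by
  let S : Sylow p H := (hT.of_equiv (Subgroup.subgroupOfEquivOfLe hTH).symm).toSylow hi
  exact ⟨S.mapSurjective hπ, rfl⟩

end Sylow

end CfsgLib.FourFree
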