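import Cfsg.Agent.Lib.FourFree.Basics
import Cfsg.Agent.Lib.PGroup.Basic

/-!
# Irreducible sections for a quadratic offender generating with its outside conjugates
-/

set_option autoImplicit false
set_option linter.style.haveILetI false

open Subgroup
open CfsgLib.Fusion (conjBy mem_conjBy conj_mem_conjBy conjBy_le_iff conjBy_eq_iff conjBy_mono
  conjBy_conjBy)
open CfsgLib.CFun (delt NoThree fixMod fixOf IsOff mem_fixOf mem_fixMod)

namespace CfsgLib.FourFree

universe u v

variable {G : Type u} {V : Type v} [Group G] [CommGroup V] {ρ : G →* MulAut V}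

theorem fixOf_conjBy (h : G) (B : Subgroup G) :
    fixOf ρ (conjBy h B) = (fixOf ρ B).map (ρ h : V ≃* V).toMonoidHom := by
  ext x
  constructor
  · intro hx
    refine ⟨ρ h⁻¹ x, mem_fixOf.2 fun b hb => ?_, apply_apply_inv h x⟩
    have := mem_fixOf.1 hx _ (conj_mem_conjBy hb)
    calc ρ b (ρ h⁻¹ x) = ρ h⁻¹ (ρ (h * b * h⁻¹) x) := by
          simp only [map_mul, MulAut.mul_apply, apply_inv_apply]
      _ = ρ h⁻¹ x := by rw [this]
  · rintro ⟨y, hy, rfl⟩
    refine mem_fixOf.2 fun d hd => ?_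
    have := mem_fixOf.1 hy _ (mem_conjBy.1 hd)
    calc ρ d (ρ h y) = ρ h (ρ (h⁻¹ * d * h) y) := by
          simp only [map_mul, MulAut.mul_apply, apply_apply_inv]
      _ = ρ h y := by rw [this]

theorem map_conjBy {G' : Type*} [Group G'] (π : G →* G') (h : G) (X : Subgroup G) :
    (conjBy h X).map π = conjBy (π h) (X.map π) := by
  rw [conjBy, conjBy, map_map, map_map]
  exact congrArg (fun f => X.map f) (MonoidHom.ext fun x => by simp)

theorem sup_conjBy_conjBy (h a : G) (B : Subgroup G) :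
    conjBy h B ⊔ conjBy a (conjBy h B) = conjBy h (B ⊔ conjBy (h⁻¹ * a * h) B) := by
  conv_rhs => rw [conjBy, Subgroup.map_sup]
  show _ = conjBy h B ⊔ conjBy h (conjBy (h⁻¹ * a * h) B)
  rw [conjBy_conjBy, conjBy_conjBy, show h * (h⁻¹ * a * h) = a * h by group]

theorem card_fixOf_conjBy (h : G) (B : Subgroup G) :
    Nat.card (fixOf ρ (conjBy h B)) = Nat.card (fixOf ρ B) := by
  rw [fixOf_conjBy]
  exact Subgroup.card_map_of_injective (ρ h).injective

theorem card_sup_mul_inf [Finite V] (C D : Subgroup V) :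
    Nat.card (C ⊔ D : Subgroup V) * Nat.card (C ⊓ D : Subgroup V) = Nat.card C * Nat.card D := by
  rw [← CfsgLib.CFun.card_mul_relIndex' (le_sup_right : D ≤ C ⊔ D), relIndex_sup_right,
    ← Subgroup.inf_relIndex_left C D, mul_assoc, mul_comm (_ : ℕ) (Nat.card (C ⊓ D : Subgroup V)),
    CfsgLib.CFun.card_mul_relIndex' inf_le_left, mul_comm]

theorem card_mul_card_le [Finite G] (A B : Subgroup G) :
    Nat.card A * Nat.card B ≤ Nat.card (A ⊔ B : Subgroup G) * Nat.card (A ⊓ B : Subgroup G) := by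
  have h1 : Nat.card (A ⊓ B : Subgroup G) * B.relIndex A = Nat.card A := by
    rw [← Subgroup.inf_relIndex_left A B, CfsgLib.CFun.card_mul_relIndex' inf_le_left]
  have h2 : Nat.card B * B.relIndex (A ⊔ B) = Nat.card (A ⊔ B : Subgroup G) :=
    CfsgLib.CFun.card_mul_relIndex' le_sup_right
  have h3 : B.relIndex A ≤ B.relIndex (A ⊔ B) :=
    Subgroup.relIndex_le_of_le_right le_sup_left index_ne_zero_of_finite
  rw [← h1, ← h2]
  calc Nat.card (A ⊓ B : Subgroup G) * B.relIndex A * Nat.card B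
      ≤ Nat.card (A ⊓ B : Subgroup G) * B.relIndex (A ⊔ B) * Nat.card B :=
        Nat.mul_le_mul (Nat.mul_le_mul le_rfl h3) le_rfl
    _ = Nat.card B * B.relIndex (A ⊔ B) * Nat.card (A ⊓ B : Subgroup G) := by ring

/-- A `2`-subgroup fixes a nontrivial element of every nontrivial invariant subgroup. -/
theorem exists_fixed [Finite G] [Finite V] (h2 : ∀ x : V, x * x = 1) {X : Subgroup G}
    (hX : IsPGroup 2 X) {D : Subgroup V} (hD : D ≠ ⊥) (hinv : X ≤ setFix ρ D) :
    ∃ x ∈ D, x ≠ 1 ∧ x ∈ fixOf ρ X := by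
  let act : MulAction X D :=
    { smul := fun g x => ⟨ρ (g : G) x, apply_mem_of_setFix (hinv g.2) x.2⟩
      one_smul := fun x => Subtype.ext (by show ρ ((1 : X) : G) x = x; simp)
      mul_smul := fun g k x => Subtype.ext (by
        show ρ ((g * k : X) : G) x = ρ (g : G) (ρ (k : G) x)
        simp) }
  have h2D : IsPGroup 2 D := fun x => ⟨1, Subtype.ext (by simp [pow_two, h2])⟩
  have hdvd : 2 ∣ Nat.card D := by
    obtain ⟨x, hx, hx1⟩ := (Subgroup.bot_or_exists_ne_one D).resolve_left hD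
    obtain ⟨n, hn⟩ := h2D.exists_card_eq
    rcases n with _ | n
    · exfalso
      have : D = ⊥ := Subgroup.card_eq_one.1 (by simpa using hn)
      exact hD this
    · exact hn ▸ dvd_pow_self 2 n.succ_ne_zero
  obtain ⟨y, hy, hy1⟩ := hX.exists_fixed_point_of_prime_dvd_card_of_fixed_point D hdvd
    (a := (1 : D)) (fun g => Subtype.ext (map_one (ρ (g : G))))
  refine ⟨y, y.2, fun e => hy1 (Subtype.ext e.symm), mem_fixOf.2 fun g hg => ?_⟩
  exact congrArg Subtype.val (hy ⟨g, hg⟩)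

/-- A quadratic offender `B` in a Sylow `2`-subgroup inside a proper `M` which it generates with
each conjugate from outside `M`. -/
structure Setup (ρ : G →* MulAut V) (T M B : Subgroup G) : Prop where
  two : ∀ x : V, x * x = 1
  hg : HG G
  sylow : ∃ S : Sylow 2 G, (S : Subgroup G) = T
  le_M : T ≤ M
  ne_top : M ≠ ⊤
  le_T : B ≤ T
  ne_bot : B ≠ ⊥
  sq : ∀ b ∈ B, b * b = 1
  quad : ∀ a ∈ B, ∀ b ∈ B, ∀ x : V, delt ρ a (delt ρ b x) = 1
  gen : ∀ h, h ∉ M → B ⊔ conjBy h B = ⊤

variable [Finite G] [Finite V] {T M B : Subgroup G}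

theorem Setup.le_of_ne_top (hs : Setup ρ T M B) {W : Subgroup G} (hBW : B ≤ W) (hW : W ≠ ⊤) :
    W ≤ M := by
  intro h hh
  by_contra hhM
  refine hW (top_le_iff.1 ((hs.gen h hhM).ge.trans (sup_le hBW (conjBy_le_iff.2 fun b hb => ?_))))
  exact mul_mem (mul_mem hh (hBW hb)) (inv_mem hh)

theorem Setup.pCore_le (hs : Setup ρ T M B) : Cfsg.pCore 2 G ≤ T := by
  obtain ⟨S, rfl⟩ := hs.sylow
  exact CfsgLib.PGroup.pCore_le_sylow S

theorem Setup.exists_not_mem (hs : Setup ρ T M B) : ∃ h, h ∉ M := by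
  by_contra h
  push Not at h
  exact hs.ne_top ((Subgroup.eq_top_iff' M).2 h)

/-- A normal subgroup inside `M` meets `B` in `O₂`. -/
theorem Setup.inf_le_pCore (hs : Setup ρ T M B) {N : Subgroup G} (hN : N.Normal) (hNM : N ≤ M) :
    N ⊓ B ≤ Cfsg.pCore 2 G := by
  obtain ⟨S, hS⟩ := hs.sylow
  subst hS
  haveI : Fact (Nat.Prime 2) := ⟨Nat.prime_two⟩
  haveI := hN
  set S0 := (S : Subgroup G) ⊓ N with hS0
  have hSN : (S : Subgroup G) ≤ normalizer (S0 : Set G) := fun s hs' => by
    refine Subgroup.mem_normalizer_iff.2 fun x => ?_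
    constructor
    · exact fun hx => ⟨(show s * x * s⁻¹ ∈ (S : Subgroup G) from mul_mem (mul_mem hs' hx.1) (inv_mem hs')),
        hN.conj_mem x hx.2 s⟩
    · intro hx
      have h1 : s⁻¹ * (s * x * s⁻¹) * s ∈ (S : Subgroup G) :=
        mul_mem (mul_mem (inv_mem hs') hx.1) hs'
      have h2 := hN.conj_mem _ hx.2 s⁻¹
      refine ⟨?_, ?_⟩
      · rwa [show s⁻¹ * (s * x * s⁻¹) * s = x by group] at h1
      · simpa [mul_assoc] using h2
  have htop : normalizer (S0 : Set G) = ⊤ := by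
    by_contra hne
    have hle := hs.le_of_ne_top (hs.le_T.trans hSN) hne
    refine hs.ne_top ((Subgroup.eq_top_iff' M).2 fun g => ?_)
    obtain ⟨c, hc, hcg⟩ := frattini_rel (S.2.to_le inf_le_left) inf_le_right
      (CfsgLib.Fusion.not_dvd_relIndex_inf_of_normal S N) (L := ⊤)
      (fun g _ x hx => hN.conj_mem x hx g) (mem_top g)
    have := mul_mem (inv_mem (hNM hc)) (hle hcg)
    simpa using this
  have h0 : S0.Normal := Subgroup.normalizer_eq_top_iff.1 htop
  exact le_trans (le_inf (inf_le_right.trans hs.le_T) inf_le_left)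
    (CfsgLib.PGroup.le_pCore h0 (S.2.to_le inf_le_left))

/-- An element of `B` outside `O₂` has a conjugate outside `M` by an element outside `M`. -/
theorem Setup.exists_conj_not_mem (hs : Setup ρ T M B) {a : G} (ha : a ∈ B)
    (haP : a ∉ Cfsg.pCore 2 G) : ∃ k, k ∉ M ∧ k⁻¹ * a * k ∉ M := by
  by_contra h
  push Not at h
  refine haP (hs.inf_le_pCore M.normalCore_normal M.normalCore_le ⟨fun k => ?_, ha⟩)
  by_cases hk : k⁻¹ ∈ M
  · have := mul_mem (mul_mem (inv_mem hk) (hs.le_M (hs.le_T ha))) hk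
    simpa using this
  · have := h k⁻¹ hk
    simpa using this

theorem Setup.not_le_pCore (hs : Setup ρ T M B) : ¬ B ≤ Cfsg.pCore 2 G := by
  intro hB
  obtain ⟨h, hh⟩ := hs.exists_not_mem
  haveI : (Cfsg.pCore 2 G).Normal := Subgroup.sSup_normal _ fun N hN => hN.1
  have : (⊤ : Subgroup G) ≤ M := by
    refine (hs.gen h hh).ge.trans ((sup_le hB (conjBy_le_iff.2 fun b hb => ?_)).trans
      (hs.pCore_le.trans hs.le_M))
    exact Subgroup.Normal.conj_mem inferInstance b (hB hb) h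
  exact hs.ne_top (top_le_iff.1 this)

/-- In an irreducible nontrivial section the fixed points of `B` are half of the section and
`B` does not offend on it. -/
theorem Setup.section_bound (hs : Setup ρ T M B) {P N : Subgroup V}
    (hP : ∀ g, ∀ u ∈ P, ρ g u ∈ P) (hN : ∀ g, ∀ u ∈ N, ρ g u ∈ N) (hNP : N ≤ P)
    (hirr : ∀ D : Subgroup V, (∀ g, ∀ u ∈ D, ρ g u ∈ D) → N ≤ D → D ≤ P → D = N ∨ D = P)
    (hnt : ∃ g : G, ∃ u ∈ P, delt ρ g u ∉ N) :
    N.relIndex P = N.relIndex (fixMod ρ (B : Set G) P N) ^ 2 ∧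
      2 ≤ N.relIndex (fixMod ρ (B : Set G) P N) ∧
      Nat.card B < Nat.card (B ⊓ Cfsg.pCore 2 G : Subgroup G) *
        N.relIndex (fixMod ρ (B : Set G) P N) := by
  classical
  haveI : Fact (Nat.Prime 2) := ⟨Nat.prime_two⟩
  have hB2 : IsPGroup 2 B := fun b => ⟨1, Subtype.ext (by simp [pow_two, hs.sq b b.2])⟩
  obtain ⟨W, _, _, q, G', _, _, π, ρ', hq, hqker, hπ, hρ', hact⟩ :=
    exists_section (ρ := ρ) hP hN
  have hW2 : ∀ w : W, w * w = 1 := fun w => by
    obtain ⟨x, rfl⟩ := hq w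
    rw [← map_mul, show x * x = 1 from Subtype.ext (hs.two x), map_one]
  have hWtriv : ∀ w : W, (∀ g, ρ' g w = w) → w = 1 := by
    intro w hw
    obtain ⟨x, rfl⟩ := hq w
    let D : Subgroup V :=
      { carrier := {u | u ∈ P ∧ ∀ g, delt ρ g u ∈ N}
        one_mem' := ⟨one_mem P, fun g => by rw [CfsgLib.CFun.delt_one_right]; exact one_mem N⟩
        mul_mem' := fun hu hu' => ⟨mul_mem hu.1 hu'.1, fun g => by
          rw [CfsgLib.CFun.delt_mul_left]; exact mul_mem (hu.2 g) (hu'.2 g)⟩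
        inv_mem' := fun hu => ⟨inv_mem hu.1, fun g => by
          rw [CfsgLib.CFun.delt_inv_right]; exact inv_mem (hu.2 g)⟩ }
    have hD : ∀ g, ∀ u ∈ D, ρ g u ∈ D := fun g u hu => ⟨hP g u hu.1, fun k => by
      have e : delt ρ k (ρ g u) = ρ g (delt ρ (g⁻¹ * k * g) u) := by
        simp only [delt, map_div, map_mul, MulAut.mul_apply, apply_apply_inv]
      rw [e]; exact hN g _ (hu.2 _)⟩
    have hxD : (x : V) ∈ D := ⟨x.2, fun g => by
      have := hw (π g)
      rw [hact] at this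
      exact (hqker (⟨ρ g x, hP g x x.2⟩ / x)).1 (by rw [map_div, this, div_self'])⟩
    rcases hirr D hD (fun u hu => ⟨hNP hu, fun g => div_mem (hN g u hu) hu⟩) (fun u hu => hu.1)
      with e | e
    · exact (hqker x).2 (e ▸ hxD)
    · obtain ⟨g, u, hu, hgu⟩ := hnt
      exact absurd ((e.symm ▸ hu : u ∈ D).2 g) hgu
  have hWne : (⊤ : Subgroup W) ≠ ⊥ := by
    obtain ⟨g, u, hu, hgu⟩ := hnt
    intro h
    refine hgu ((hqker ⟨delt ρ g u, div_mem (hP g u hu) hu⟩).1 ?_)
    exact mem_bot.1 (h ▸ mem_top _)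
  have hWirr : ∀ D : Subgroup W, (∀ g, ∀ w ∈ D, ρ' g w ∈ D) → D ≠ ⊥ → D = ⊤ := by
    intro D hD hne
    have hD' : ∀ g, ∀ u ∈ (D.comap q).map P.subtype, ρ g u ∈ (D.comap q).map P.subtype := by
      rintro g _ ⟨x, hx, rfl⟩
      refine ⟨⟨ρ g x, hP g x x.2⟩, ?_, rfl⟩
      show q _ ∈ D
      rw [← hact]; exact hD _ _ hx
    rcases hirr _ hD' (fun u hu => ⟨⟨u, hNP hu⟩, (by
        show q ⟨u, hNP hu⟩ ∈ D
        rw [(hqker ⟨u, hNP hu⟩).2 hu]; exact one_mem D), rfl⟩) (map_subtype_le _) with e | e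
    · refine absurd ((Subgroup.eq_bot_iff_forall _).2 fun w hw => ?_) hne
      obtain ⟨x, rfl⟩ := hq w
      exact (hqker x).2 (e.le ⟨x, hw, rfl⟩)
    · refine (Subgroup.eq_top_iff' D).2 fun w => ?_
      obtain ⟨x, rfl⟩ := hq w
      obtain ⟨y, hy, hyx⟩ := e.ge x.2
      rw [← Subtype.ext hyx]; exact hy
  -- fixed points of normal subgroups
  have hfixtop : ∀ X : Subgroup G', X.Normal → fixOf ρ' X ≠ ⊥ → X = ⊥ := by
    intro X hX hne
    have hinv : ∀ g, ∀ w ∈ fixOf ρ' X, ρ' g w ∈ fixOf ρ' X := fun g w hw =>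
      mem_fixOf.2 fun k hk => by
        have := mem_fixOf.1 hw _ (show g⁻¹ * k * g ∈ X by simpa using hX.conj_mem k hk g⁻¹)
        calc ρ' k (ρ' g w) = ρ' g (ρ' (g⁻¹ * k * g) w) := by
              simp only [map_mul, MulAut.mul_apply, apply_apply_inv]
          _ = ρ' g w := by rw [this]
    have := hWirr _ hinv hne
    refine (Subgroup.eq_bot_iff_forall _).2 fun k hk => hρ' (MulEquiv.ext fun w => ?_)
    rw [map_one, MulAut.one_apply]
    exact mem_fixOf.1 (this ▸ mem_top w) k hk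
  have hfix2 : ∀ X : Subgroup G', IsPGroup 2 X → fixOf ρ' X ≠ ⊥ := by
    intro X hX he
    obtain ⟨w, -, hw1, hw⟩ := exists_fixed (ρ := ρ') hW2 hX hWne
      (le_setFix fun _ _ _ _ => mem_top _)
    exact hw1 (mem_bot.1 (he ▸ hw))
  -- the kernel
  have hKB : π.ker ⊔ B ≠ ⊤ := by
    intro h
    have hBtop : B.map π = ⊤ := by
      rw [← map_top_of_surjective π hπ, ← h, Subgroup.map_sup, (Subgroup.map_eq_bot_iff _).2 le_rfl, bot_sup_eq]
    have := hfixtop ⊤ inferInstance (hBtop ▸ hfix2 _ (hB2.map π))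
    obtain ⟨g, u, hu, hgu⟩ := hnt
    have hg1 : π g = 1 := mem_bot.1 (this ▸ mem_top _)
    have h0 : q ((⟨ρ g u, hP g u hu⟩ : P) / ⟨u, hu⟩) = 1 := by
      rw [map_div, ← hact g ⟨u, hu⟩, hg1, map_one, MulAut.one_apply, div_self']
    exact hgu ((hqker _).1 h0)
  have hkerM : π.ker ≤ M := le_sup_left.trans (hs.le_of_ne_top le_sup_right hKB)
  have hPker : Cfsg.pCore 2 G ≤ π.ker := by
    haveI hn : (Cfsg.pCore 2 G).Normal := Subgroup.sSup_normal _ fun N hN => hN.1
    have := hfixtop _ (hn.map π hπ) (hfix2 _ ((CfsgLib.PGroup.isPGroup_pCore 2 G).map π))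
    exact (Subgroup.map_eq_bot_iff _).1 this
  have hBker : B ⊓ Cfsg.pCore 2 G = B ⊓ π.ker := le_antisymm (inf_le_inf_left B hPker)
    (le_inf inf_le_left (by rw [inf_comm]; exact hs.inf_le_pCore inferInstance hkerM))
  have hBcard : Nat.card (B.map π) * Nat.card (B ⊓ Cfsg.pCore 2 G : Subgroup G) = Nat.card B := by
    rw [hBker, ← relIndex_ker, ← Subgroup.inf_relIndex_left B, mul_comm,
      CfsgLib.CFun.card_mul_relIndex' inf_le_left]
  set B' := B.map π with hB'
  have hB'ne : B' ≠ ⊥ := fun e =>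
    hs.not_le_pCore fun b hb => ((hBker.ge ⟨hb, (Subgroup.map_eq_bot_iff _).1 e hb⟩).2)
  -- the fixed points
  set C := fixMod ρ (B : Set G) P N with hCdef
  have hNC : N ≤ C := fun u hu => ⟨hNP hu, fun b _ => div_mem (hN b u hu) hu⟩
  have hCimage : (C.subgroupOf P).map q = fixOf ρ' B' := by
    ext w
    constructor
    · rintro ⟨x, hx, rfl⟩
      refine mem_fixOf.2 ?_
      rintro _ ⟨b, hb, rfl⟩
      rw [hact]
      refine div_eq_one.1 ?_
      rw [← map_div]
      exact (hqker _).2 (hx.2 b hb)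
    · intro hw
      obtain ⟨x, rfl⟩ := hq w
      refine ⟨x, ⟨x.2, fun b hb => ?_⟩, rfl⟩
      have := mem_fixOf.1 hw _ (mem_map_of_mem π hb)
      rw [hact] at this
      exact (hqker (⟨ρ b x, hP b x x.2⟩ / x)).1 (by rw [map_div, this, div_self'])
  have hqk : q.ker = N.subgroupOf P := by ext x; exact (hqker x)
  have hcardC : Nat.card (fixOf ρ' B') = N.relIndex C := by
    rw [← hCimage, ← relIndex_ker, hqk, subgroupOf, relIndex_comap,
      subgroupOf_map_subtype, inf_eq_left.2 (show C ≤ P from fun u hu => hu.1)]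
  have hcardW : Nat.card W = N.relIndex P := by
    rw [← Subgroup.card_top (G := W), ← map_top_of_surjective q hq, ← relIndex_ker, hqk,
      relIndex_top_right]
    rfl
  -- `B` generates with its conjugates
  have hM' : ∀ g, π g ∈ M.map π → g ∈ M := by
    rintro g ⟨m, hm, hmg⟩
    have : m⁻¹ * g ∈ π.ker := by rw [MonoidHom.mem_ker, map_mul, map_inv, hmg, inv_mul_cancel]
    have := mul_mem hm (hkerM this)
    simpa using this
  have hconj : ∀ h : G, conjBy (π h) B' = (conjBy h B).map π := fun h => (map_conjBy π h B).symm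
  have hgen : ∀ h, h ∉ M → B' ⊔ conjBy (π h) B' = ⊤ := fun h hh => by
    rw [hconj, ← Subgroup.map_sup, hs.gen h hh, map_top_of_surjective π hπ]
  have hquad : ∀ a ∈ B', ∀ b ∈ B', ∀ w : W, delt ρ' a (delt ρ' b w) = 1 := by
    rintro _ ⟨a, ha, rfl⟩ _ ⟨b, hb, rfl⟩ w
    obtain ⟨x, rfl⟩ := hq w
    simp only [delt, map_div, hact]
    rw [← map_div, ← map_div, ← map_div, ← map_one q]
    refine congrArg q (Subtype.ext ?_)
    have := hs.quad a ha b hb (x : V)
    simp only [delt, map_div] at this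
    simpa using this
  have hhalf : ∀ h, h ∉ M → fixOf ρ' B' ⊓ fixOf ρ' (conjBy (π h) B') = ⊥ ∧
      fixOf ρ' B' ⊔ fixOf ρ' (conjBy (π h) B') = ⊤ := by
    intro h hh
    constructor
    · refine (Subgroup.eq_bot_iff_forall _).2 fun w hw => hWtriv w fun g => ?_
      have : (⊤ : Subgroup G') ≤ ptFix ρ' (zpowers w) := by
        refine (hgen h hh).ge.trans (sup_le ?_ ?_)
        · exact le_ptFix_iff.2 (zpowers_le.2 hw.1)
        · exact le_ptFix_iff.2 (zpowers_le.2 hw.2)
      exact this (mem_top g) w (mem_zpowers w)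
    · have hquadh : ∀ d ∈ conjBy (π h) B', ∀ w : W, delt ρ' d w ∈ fixOf ρ' (conjBy (π h) B') := by
        intro d hd w
        rw [fixOf_conjBy]
        refine ⟨delt ρ' ((π h)⁻¹ * d * π h) (ρ' (π h)⁻¹ w), mem_fixOf.2 fun b hb => ?_, ?_⟩
        · exact div_eq_one.1 (hquad b hb _ (mem_conjBy.1 hd) _)
        · simp only [delt, MulEquiv.coe_toMonoidHom, map_div, map_mul, MulAut.mul_apply,
            apply_apply_inv]
      refine hWirr _ (fun g w hw => ?_) ?_
      · have hle : (⊤ : Subgroup G') ≤ setFix ρ' (fixOf ρ' B' ⊔ fixOf ρ' (conjBy (π h) B')) := by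
          refine (hgen h hh).ge.trans (sup_le (le_setFix fun b hb u _ => ?_)
            (le_setFix fun d hd u _ => ?_))
          · rw [CfsgLib.CFun.delt_apply ρ']
            exact mul_mem (mem_sup_left (mem_fixOf.2 fun a ha => div_eq_one.1 (hquad a ha b hb u)))
              ‹_›
          · rw [CfsgLib.CFun.delt_apply ρ']
            exact mul_mem (mem_sup_right (hquadh d hd u)) ‹_›
        exact apply_mem_of_setFix (hle (mem_top g)) hw
      · exact ne_bot_of_le_ne_bot (hfix2 B' (hB2.map π)) le_sup_left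
  obtain ⟨h₀, hh₀⟩ := hs.exists_not_mem
  have hsq : N.relIndex P = N.relIndex C ^ 2 := by
    obtain ⟨h1, h2⟩ := hhalf h₀ hh₀
    have := card_sup_mul_inf (fixOf ρ' B') (fixOf ρ' (conjBy (π h₀) B'))
    rw [h1, h2, Subgroup.card_bot, mul_one, Subgroup.card_top, card_fixOf_conjBy, hcardC, hcardW]
      at this
    rw [this, pow_two]
  refine ⟨hsq, ?_, ?_⟩
  · have h0 : 0 < Nat.card (fixOf ρ' B') := Nat.card_pos
    have h1 : Nat.card (fixOf ρ' B') ≠ 1 := fun e => hfix2 B' (hB2.map π) (Subgroup.card_eq_one.1 e)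
    rw [hcardC] at h0 h1
    omega
  -- otherwise `B` offends on the section
  by_contra hlt
  rw [not_lt] at hlt
  have hoff : IsOff ρ' B' := by
    unfold IsOff
    rw [hcardC, hcardW, hsq, pow_two]
    refine Nat.mul_le_mul_right _ ?_
    refine Nat.le_of_mul_le_mul_left ?_ (Nat.card_pos (α := (B ⊓ Cfsg.pCore 2 G : Subgroup G)))
    rw [mul_comm _ (Nat.card B'), hBcard]
    exact hlt
  obtain ⟨S, hS⟩ := hs.sylow
  subst hS
  refine CfsgLib.CFun.false_of_generators hW2 hρ' ((hs.hg.quotient π hπ).noThree ρ' hW2)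
    (S.mapSurjective hπ) (M.map π) (map_mono hs.le_M) (fun e => hh₀ (hM' _ (e ▸ mem_top _))) B'
    hB'ne ?_ hquad hoff ?_ ?_
  · rintro _ ⟨b, hb, rfl⟩
    rw [← map_mul, hs.sq b hb, map_one]
  · intro h' hh'
    obtain ⟨h, rfl⟩ := hπ h'
    exact hgen h fun hm => hh' (mem_map_of_mem π hm)
  · intro h' hh' a' ha' ha'1
    obtain ⟨h, rfl⟩ := hπ h'
    obtain ⟨a, ha, rfl⟩ := ha'
    have hhM : h ∉ M := fun hm => hh' (mem_map_of_mem π hm)
    have haP : a ∉ Cfsg.pCore 2 G := fun hp => ha'1 (MonoidHom.mem_ker.1 (hPker hp))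
    -- the conjugate of `a` is outside `M`
    have hkey : h⁻¹ * a * h ∉ M := by
      intro hm
      have hm2 : IsPGroup 2 (zpowers (h⁻¹ * a * h)) := by
        refine IsPGroup.of_card (n := 1) ?_
        rw [Nat.card_zpowers, pow_one]
        refine orderOf_eq_prime ?_ fun e => haP ?_
        · rw [pow_two, show h⁻¹ * a * h * (h⁻¹ * a * h) = h⁻¹ * (a * a) * h by group,
            hs.sq a ha]
          group
        · have : a = h * (h⁻¹ * a * h) * h⁻¹ := by group
          rw [this, e]; simp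
      obtain ⟨l, hl, hle⟩ := CfsgLib.Fusion.exists_conj_le_of_not_dvd_relIndex S.2 hs.le_M
        (fun hd => S.not_dvd_index (hd.trans (relIndex_dvd_index_of_le hs.le_M))) hm2
        (zpowers_le.2 hm)
      set k₀ := h * l⁻¹ with hk₀
      have hk₀M : k₀ ∉ M := fun hk => hhM (by simpa [k₀] using mul_mem hk hl)
      have hat : k₀⁻¹ * a * k₀ ∈ (S : Subgroup G) := by
        have := hle (conj_mem_conjBy (g := l) (mem_zpowers (h⁻¹ * a * h)))
        simpa [k₀, mul_assoc] using this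
      -- a fixed point of the Sylow subgroup
      obtain ⟨w, -, hw1, hw⟩ := exists_fixed (ρ := ρ') hW2 (S.2.map π) hWne
        (le_setFix fun _ _ _ _ => mem_top _)
      let St : Subgroup G := (ptFix ρ' (zpowers w)).comap π
      have hSSt : (S : Subgroup G) ≤ St := fun s hs' =>
        le_ptFix_iff.2 (zpowers_le.2 hw) (mem_map_of_mem π hs')
      have hStne : St ≠ ⊤ := fun e => hw1 (hWtriv w fun g => by
        obtain ⟨x, rfl⟩ := hπ g
        exact (show x ∈ St from e ▸ mem_top x) w (mem_zpowers w))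
      have hStM : St ≤ M := hs.le_of_ne_top (hs.le_T.trans hSSt) hStne
      obtain ⟨k, hk, hka⟩ := hs.exists_conj_not_mem ha haP
      -- decompose the translate
      set z := ρ' (π k₀) w with hz
      obtain ⟨u, hu, v, hv, huv⟩ := Subgroup.mem_sup.1 ((hhalf k hk).2.ge (mem_top z))
      have haz : ρ' (π a) z = z := by
        rw [hz, ← MulAut.mul_apply, ← map_mul, show π a * π k₀ = π k₀ * π (k₀⁻¹ * a * k₀) by
          rw [← map_mul, ← map_mul]; congr 1; group, map_mul, MulAut.mul_apply,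
          mem_fixOf.1 hw _ (mem_map_of_mem π hat)]
      have hav : ρ' (π a) v = v := by
        have hau := mem_fixOf.1 hu _ (mem_map_of_mem π ha)
        rw [← huv, map_mul, hau] at haz
        exact mul_left_cancel haz
      have hv1 : v = 1 := by
        have hDa : conjBy (π k) B' ⊔ conjBy (π a) (conjBy (π k) B') = ⊤ := by
          have h1 : (conjBy k B ⊔ conjBy a (conjBy k B)).map π = ⊤ := by
            have e := sup_conjBy_conjBy k a B
            rw [e, hs.gen _ hka, conjBy, map_top_of_surjective _ (MulAut.conj k).surjective,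
              map_top_of_surjective π hπ]
          rw [← h1, Subgroup.map_sup, map_conjBy, map_conjBy, map_conjBy]
        refine hWtriv v fun g => ?_
        have : (⊤ : Subgroup G') ≤ ptFix ρ' (zpowers v) := by
          refine hDa.ge.trans (sup_le (le_ptFix_iff.2 (zpowers_le.2 hv))
            (le_ptFix_iff.2 (zpowers_le.2 ?_)))
          rw [fixOf_conjBy]
          exact ⟨v, hv, hav⟩
        exact this (mem_top g) v (mem_zpowers v)
      -- then `B` fixes the translate
      have hBz : conjBy k₀⁻¹ B ≤ M := by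
        refine le_trans (conjBy_le_iff.2 fun b hb => ?_) hStM
        intro t ht
        have hbz : ρ' (π b) z = z := by
          rw [← huv, hv1, mul_one]; exact mem_fixOf.1 hu _ (mem_map_of_mem π hb)
        obtain ⟨i, rfl⟩ := mem_zpowers_iff.1 ht
        rw [map_zpow, inv_inv, map_mul π, map_mul π, map_inv π, map_mul ρ', map_mul ρ',
          MulAut.mul_apply, MulAut.mul_apply, ← hz, hbz, hz, apply_inv_apply]
      refine hs.ne_top (top_le_iff.1 ((hs.gen k₀⁻¹ fun hk => hk₀M ?_).ge.trans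
        (sup_le (hs.le_T.trans hs.le_M) hBz)))
      simpa using inv_mem hk
    have h1 : (conjBy h B ⊔ conjBy a (conjBy h B)).map π = ⊤ := by
      have e := sup_conjBy_conjBy h a B
      rw [e, hs.gen _ hkey, conjBy, map_top_of_surjective _ (MulAut.conj h).surjective,
        map_top_of_surjective π hπ]
    rw [← h1, Subgroup.map_sup, map_conjBy, map_conjBy, map_conjBy]

end CfsgLib.FourFree
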