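import Cfsg.Agent.Lib.FourFree.PairBound
import Cfsg.Agent.Lib.PGroup.Subnormalizer

/-!
# No offenders in groups without sections of type `S₃`

If no element of order three of `G` is inverted by a conjugation and the module is generated by the
translates of the fixed points of a Sylow `2`-subgroup, then no elementary abelian subgroup of that
Sylow subgroup offends.
-/

set_option autoImplicit false
set_option linter.style.haveILetI false

open Subgroup
open CfsgLib.Fusion (conjBy mem_conjBy conj_mem_conjBy conjBy_le_iff conjBy_eq_iff conjBy_mono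
  conjBy_conjBy card_conjBy conjBy_inv_conjBy conjBy_conjBy_inv)
open CfsgLib.CFun (delt fixOf IsOff mem_fixOf card_mul_relIndex')

namespace CfsgLib.FourFree

universe u v

variable {G : Type u} {V : Type v} [Group G] [CommGroup V]

section Image

variable {ρ : G →* MulAut V} {H : Subgroup G} {U : Subgroup V} {G' : Type u} [Group G']
  {π : H →* G'} {ρ' : G' →* MulAut U}

theorem image_ker (hρ' : Function.Injective ρ')
    (hcompat : ∀ (h : H) (x : U), ((ρ' (π h) x : U) : V) = ρ (h : G) x) :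
    π.ker = (ptFix ρ U).subgroupOf H := by
  ext h
  constructor
  · intro hh u hu
    have := hcompat h ⟨u, hu⟩
    rw [MonoidHom.mem_ker.1 hh, map_one, MulAut.one_apply] at this
    exact this.symm
  · intro hh
    refine MonoidHom.mem_ker.2 (hρ' (MulEquiv.ext fun x => Subtype.ext ?_))
    rw [map_one, MulAut.one_apply, hcompat]
    exact hh x x.2

theorem card_image (hρ' : Function.Injective ρ')
    (hcompat : ∀ (h : H) (x : U), ((ρ' (π h) x : U) : V) = ρ (h : G) x) {X : Subgroup G}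
    (hX : X ≤ H) : Nat.card ((X.subgroupOf H).map π) = (ptFix ρ U).relIndex X := by
  rw [← relIndex_ker, image_ker hρ' hcompat, subgroupOf, relIndex_comap, subgroupOf_map_subtype,
    inf_eq_left.2 hX]

theorem fixOf_image (hcompat : ∀ (h : H) (x : U), ((ρ' (π h) x : U) : V) = ρ (h : G) x)
    {X : Subgroup G} (hX : X ≤ H) :
    (fixOf ρ' ((X.subgroupOf H).map π)).map U.subtype = U ⊓ fixOf ρ X := by
  ext u
  constructor
  · rintro ⟨x, hx, rfl⟩
    refine ⟨x.2, mem_fixOf.2 fun a ha => ?_⟩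
    have := congrArg Subtype.val (mem_fixOf.1 hx _ (mem_map_of_mem π
      (show (⟨a, hX ha⟩ : H) ∈ X.subgroupOf H from ha)))
    rwa [hcompat] at this
  · rintro ⟨hu, hfix⟩
    refine ⟨⟨u, hu⟩, mem_fixOf.2 ?_, rfl⟩
    rintro _ ⟨a, ha, rfl⟩
    refine Subtype.ext ?_
    rw [hcompat]
    exact mem_fixOf.1 hfix _ ha

theorem card_fixOf_image (hcompat : ∀ (h : H) (x : U), ((ρ' (π h) x : U) : V) = ρ (h : G) x)
    {X : Subgroup G} (hX : X ≤ H) :
    Nat.card (fixOf ρ' ((X.subgroupOf H).map π)) = Nat.card (U ⊓ fixOf ρ X : Subgroup V) := by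
  rw [← fixOf_image hcompat hX, Subgroup.card_map_of_injective U.subtype_injective]

theorem transl_image_eq_top
    (hcompat : ∀ (h : H) (x : U), ((ρ' (π h) x : U) : V) = ρ (h : G) x) {W : Subgroup V}
    (hU : U = transl ρ H W) {W' : Subgroup U} (hW : W.subgroupOf U ≤ W') :
    transl ρ' ⊤ W' = ⊤ := by
  refine (Subgroup.eq_top_iff' _).2 fun x => ?_
  have h1 : transl ρ H W ≤ (transl ρ' ⊤ W').map U.subtype := by
    refine transl_le fun g hg w hw => ?_
    have hwU : w ∈ U := hU ▸ le_transl H W hw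
    refine ⟨ρ' (π ⟨g, hg⟩) ⟨w, hwU⟩, mem_transl (mem_top _) (hW hw), ?_⟩
    exact hcompat _ _
  obtain ⟨y, hy, hyx⟩ := h1 (show (x : V) ∈ transl ρ H W from hU ▸ x.2)
  rwa [← Subtype.ext hyx]

end Image

/-- An elementary abelian offender of `ρ` in `T` all of whose nontrivial proper subgroups do not
offend. -/
def Mem (ρ : G →* MulAut V) (T B : Subgroup G) : Prop :=
  B ≤ T ∧ B ≠ ⊥ ∧ (∀ b ∈ B, b * b = 1) ∧ IsOff ρ B ∧
    ∀ B' : Subgroup G, B' < B → B' ≠ ⊥ → ¬ IsOff ρ B'

/-- The join of the minimal offenders inside `R`. -/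
def jOf (ρ : G →* MulAut V) (T R : Subgroup G) : Subgroup G :=
  sSup {B | Mem ρ T B ∧ B ≤ R}

variable {ρ : G →* MulAut V} {T : Subgroup G}

theorem jOf_le (R : Subgroup G) : jOf ρ T R ≤ R := sSup_le fun _ hB => hB.2

theorem le_jOf {B R : Subgroup G} (hB : Mem ρ T B) (hBR : B ≤ R) : B ≤ jOf ρ T R :=
  le_sSup ⟨hB, hBR⟩

theorem Mem.sq {B : Subgroup G} (h : Mem ρ T B) : ∀ b ∈ B, b * b = 1 := h.2.2.1

theorem commute_of_sq {B : Subgroup G} (hB : ∀ b ∈ B, b * b = 1) :
    ∀ a ∈ B, ∀ b ∈ B, Commute a b := fun a ha b hb => by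
  have ea : a⁻¹ = a := inv_eq_of_mul_eq_one_right (hB a ha)
  have eb : b⁻¹ = b := inv_eq_of_mul_eq_one_right (hB b hb)
  show a * b = b * a
  rw [← inv_eq_of_mul_eq_one_right (hB _ (mul_mem ha hb)), mul_inv_rev, ea, eb]

variable [Finite G] [Finite V]

theorem Mem.conj {B : Subgroup G} (h : Mem ρ T B) {g : G} (hle : conjBy g B ≤ T) :
    Mem ρ T (conjBy g B) := by
  have hoff : ∀ {g : G} {X : Subgroup G}, IsOff ρ X → IsOff ρ (conjBy g X) := fun {g X} hX => by
    unfold IsOff
    rwa [card_conjBy, card_fixOf_conjBy]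
  obtain ⟨-, hne, hsq, ho, hmin⟩ := h
  refine ⟨hle, fun e => hne ?_, fun b hb => ?_, hoff ho, fun B' hB' hB'ne hB'off =>
    hmin (conjBy g⁻¹ B') ?_ ?_ (hoff hB'off)⟩
  · have := congrArg (conjBy g⁻¹) e
    rwa [conjBy_inv_conjBy, conjBy, Subgroup.map_bot] at this
  · have := hsq _ (mem_conjBy.1 hb)
    calc b * b = g * ((g⁻¹ * b * g) * (g⁻¹ * b * g)) * g⁻¹ := by group
      _ = 1 := by rw [this]; group
  · refine lt_of_le_of_ne ((conjBy_mono hB'.le).trans (conjBy_inv_conjBy g B).le) fun e => hB'.ne ?_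
    rw [← e, conjBy_conjBy_inv]
  · intro e
    refine hB'ne ?_
    have := congrArg (conjBy g) e
    rwa [conjBy_conjBy_inv, conjBy, Subgroup.map_bot] at this

theorem Mem.best {B : Subgroup G} (h : Mem ρ T B) : ∀ B' : Subgroup G, B' ≤ B →
    Nat.card B' * Nat.card (fixOf ρ B') ≤ Nat.card B * Nat.card (fixOf ρ B) := by
  intro B' hle
  rcases eq_or_lt_of_le hle with e | e
  · rw [e]
  rcases eq_or_ne B' ⊥ with e' | e'
  · rw [e', Subgroup.card_bot, one_mul]
    exact (Subgroup.card_le_card_group _).trans h.2.2.2.1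
  · exact le_trans (le_of_lt (not_le.1 (h.2.2.2.2 B' e e'))) h.2.2.2.1

theorem Mem.quad (h2 : ∀ x : V, x * x = 1) {B : Subgroup G} (h : Mem ρ T B) :
    ∀ a ∈ B, ∀ b ∈ B, ∀ x : V, delt ρ a (delt ρ b x) = 1 :=
  CfsgLib.CFun.quadratic_of_minimal (fun v => ⟨1, by rw [pow_one, pow_two, h2]⟩)
    (commute_of_sq h.sq) h.2.1 h.2.2.2.1 fun B' hlt hne =>
      lt_of_lt_of_le (not_le.1 (h.2.2.2.2 B' hlt hne)) h.2.2.2.1

theorem mem_normalizer_jOf {R : Subgroup G} (hR : R ≤ T) {g : G}
    (hg : g ∈ normalizer (R : Set G)) : g ∈ normalizer (jOf ρ T R : Set G) := by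
  refine conjBy_eq_iff.1 (CfsgLib.Fusion.conjBy_eq_of_le ?_)
  rw [conjBy, map_le_iff_le_comap]
  refine sSup_le fun B hB => map_le_iff_le_comap.1 ?_
  have hle : conjBy g B ≤ R := (conjBy_mono hB.2).trans (conjBy_eq_iff.2 hg).le
  exact le_jOf (hB.1.conj (hle.trans hR)) hle

omit [Finite V] in
/-- A Sylow subgroup of `L` meets a subgroup normalized by `L` in a Sylow subgroup. -/
theorem not_dvd_inf {p : ℕ} [Fact p.Prime] {S L C : Subgroup G} (hS : IsPGroup p S) (hSL : S ≤ L)
    (hi : ¬ p ∣ S.relIndex L) (hCL : C ≤ L) (hLC : ∀ g ∈ L, ∀ x ∈ C, g * x * g⁻¹ ∈ C) :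
    ¬ p ∣ (S ⊓ C).relIndex C := by
  obtain ⟨Q, hQ, hQC, hQp, hQi⟩ := CfsgLib.Fusion.exists_le_not_dvd_relIndex
    (hS.to_le (inf_le_left : S ⊓ C ≤ S)) inf_le_right
  obtain ⟨l, hl, hle⟩ := CfsgLib.Fusion.exists_conj_le_of_not_dvd_relIndex hS hSL hi hQp
    (hQC.trans hCL)
  have h1 : conjBy l Q ≤ S ⊓ C :=
    le_inf hle (conjBy_le_iff.2 fun x hx => hLC l hl x (hQC hx))
  have h2 : Nat.card Q ≤ Nat.card (S ⊓ C : Subgroup G) :=
    (card_conjBy l Q).ge.trans (card_le_of_le h1)
  rwa [eq_of_le_of_card_ge hQ h2]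

/-- No offenders in groups without sections of type `S₃`. -/
theorem offender_eq_bot_aux (n : ℕ) : ∀ (G : Type u) [Group G] [Finite G] (V : Type v) [CommGroup V]
    [Finite V] (ρ : G →* MulAut V), Nat.card G = n → Function.Injective ρ → HG G →
    (∀ x : V, x * x = 1) → ∀ T : Sylow 2 G, transl ρ ⊤ (fixOf ρ (T : Subgroup G)) = ⊤ →
    ∀ B : Subgroup G, B ≤ T → (∀ b ∈ B, b * b = 1) → IsOff ρ B → B = ⊥ := by
  induction n using Nat.strong_induction_on with
  | _ n ih =>
  intro G _ _ V _ _ ρ hn hρ hg h2 T hgenT B₀ hB₀T hB₀2 hB₀off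
  classical
  haveI : Fact (Nat.Prime 2) := ⟨Nat.prime_two⟩
  by_contra hB₀ne
  obtain ⟨A₀, hA₀, -⟩ : ∃ A, Mem ρ (T : Subgroup G) A ∧ A ≤ B₀ := by
    obtain ⟨A, ⟨hAle, hAne, hAoff⟩, hmin⟩ := (Set.toFinite
      {A : Subgroup G | A ≤ B₀ ∧ A ≠ ⊥ ∧ IsOff ρ A}).exists_minimal ⟨B₀, le_rfl, hB₀ne, hB₀off⟩
    exact ⟨A, ⟨hAle.trans hB₀T, hAne, fun b hb => hB₀2 b (hAle hb), hAoff,
      fun B' hlt hne hoff => hlt.not_ge (hmin ⟨hlt.le.trans hAle, hne, hoff⟩ hlt.le)⟩, hAle⟩
  set J := jOf ρ (T : Subgroup G) T with hJ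
  have hJT : J ≤ T := jOf_le _
  have hJne : J ≠ ⊥ := fun e => hA₀.2.1 (le_bot_iff.1 (e ▸ le_jOf hA₀ hA₀.1))
  set N := normalizer (J : Set G) with hN
  have hTN : (T : Subgroup G) ≤ N := fun t ht => mem_normalizer_jOf le_rfl (le_normalizer ht)
  have hNtop : N ≠ ⊤ := by
    intro e
    haveI : J.Normal := normalizer_eq_top_iff.1 e
    refine hJne (le_bot_iff.1 ?_)
    rw [← ptFix_top hρ, ← hgenT]
    exact fun z hz => mem_ptFix_transl fun g _ =>
      le_ptFix_iff.2 le_rfl (hJT (by simpa using Subgroup.Normal.conj_mem ‹J.Normal› z hz g⁻¹))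
  set W0 := fixOf ρ (T : Subgroup G) with hW0
  set V0 := transl ρ N W0 with hV0
  set St := setFix ρ V0 with hSt
  have hNSt : N ≤ St := le_setFix_transl N W0
  -- the induction applies to the action on `V0`
  have hH0 : ∀ X : Subgroup G, X ≤ T → (∀ a ∈ X, a * a ∈ ptFix ρ V0) →
      Nat.card V0 ≤ (ptFix ρ V0).relIndex X * Nat.card (V0 ⊓ fixOf ρ X : Subgroup V) →
      X ≤ ptFix ρ V0 := by
    obtain ⟨G', _, _, π, ρ', hπ, hρ', hc⟩ := exists_image (ρ := ρ) N V0 hNSt
    obtain ⟨T', hT'⟩ := exists_sylow_image T.2 hTN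
      (fun hd => T.not_dvd_index (hd.trans (relIndex_dvd_index_of_le hTN))) π hπ
    have hlt : Nat.card G' < n := by
      refine lt_of_le_of_lt (Nat.card_le_card_of_surjective π hπ) (hn ▸ ?_)
      exact lt_of_le_of_ne (Subgroup.card_le_card_group N)
        fun e => hNtop (Subgroup.eq_top_of_card_eq N e)
    have h2' : ∀ x : V0, x * x = 1 := fun x => Subtype.ext (h2 x)
    have hgen' : transl ρ' ⊤ (fixOf ρ' (T' : Subgroup G')) = ⊤ := by
      refine transl_image_eq_top hc rfl ?_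
      intro w hw
      have h : (w : V) ∈ (fixOf ρ' (T' : Subgroup G')).map V0.subtype := by
        rw [hT', fixOf_image hc hTN]
        exact ⟨w.2, hw⟩
      obtain ⟨y, hy, hyw⟩ := h
      rwa [← Subtype.ext hyw]
    intro X hXT hXsq hle
    have hXN : X ≤ N := hXT.trans hTN
    have hbot := ih _ hlt G' V0 ρ' rfl hρ' ((hg.subgroup N).quotient π hπ) h2' T' hgen'
      ((X.subgroupOf N).map π) (hT' ▸ map_mono fun x hx => hXT hx) (by
        rintro _ ⟨a, ha, rfl⟩
        rw [← map_mul, ← MonoidHom.mem_ker, image_ker hρ' hc]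
        exact hXsq _ ha) (by
        unfold IsOff
        rwa [card_image hρ' hc hXN, card_fixOf_image hc hXN])
    intro x hx
    have : (⟨x, hXN hx⟩ : N) ∈ π.ker :=
      mem_bot.1 (hbot ▸ mem_map_of_mem π (show (⟨x, hXN hx⟩ : N) ∈ X.subgroupOf N from hx))
    rwa [image_ker hρ' hc] at this
  have hkill : ∀ B, Mem ρ (T : Subgroup G) B → B ≤ ptFix ρ V0 := fun B hB =>
    hH0 B hB.1 (fun a ha => by rw [hB.sq a ha]; exact one_mem _) (best_restrict hB.best V0)
  have hSttop : St ≠ ⊤ := by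
    intro e
    have hV0top : V0 = ⊤ := top_le_iff.1 (hgenT ▸ transl_le fun g _ w hw =>
      apply_mem_of_setFix (e.ge (mem_top g) : g ∈ St) (le_transl N W0 hw))
    refine hA₀.2.1 (le_bot_iff.1 ?_)
    rw [← ptFix_top hρ, ← hV0top]
    exact hkill A₀ hA₀
  -- no subgroup is moved out of the stabilizer
  have claim : ∀ (m : ℕ) (L T1 : Subgroup G), Nat.card L = m → T1 ≤ T → T1 ≤ L →
      ¬ 2 ∣ T1.relIndex L → (∃ B, Mem ρ (T : Subgroup G) B ∧ B ≤ T1) →
      L ⊓ normalizer (jOf ρ (T : Subgroup G) T1 : Set G) ≤ St → L ≤ St := by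
    intro m
    induction m using Nat.strong_induction_on with
    | _ m ihm =>
    intro L T1 hm hT1T hT1L hi hmem hN1
    by_contra hLSt
    have hT1p : IsPGroup 2 T1 := T.2.to_le hT1T
    set U := transl ρ L V0 with hU
    have hLU : L ≤ setFix ρ U := le_setFix_transl L V0
    have hV0U : V0 ≤ U := le_transl L V0
    have hptSt : ptFix ρ U ≤ St := (ptFix_mono hV0U).trans (ptFix_le_setFix V0)
    let Moving : Subgroup G → Prop := fun B => Mem ρ (T : Subgroup G) B ∧ ¬ B ≤ ptFix ρ U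
    have hmovconj : ∀ {B : Subgroup G} {y : G}, Moving B → y ∈ L → conjBy y B ≤ (T : Subgroup G) →
        Moving (conjBy y B) := fun {B y} hB hy hle => ⟨hB.1.conj hle, fun h => hB.2 fun b hb => by
      have := conj_mem_ptFix (hLU (inv_mem hy)) (h (conj_mem_conjBy (g := y) hb))
      simpa [mul_assoc] using this⟩
    obtain ⟨B₁, hB₁, hB₁T1⟩ : ∃ B, Moving B ∧ B ≤ T1 := by
      by_contra hnone
      push Not at hnone
      -- all members act trivially on `U`
      set C := L ⊓ ptFix ρ U with hC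
      have hLC : ∀ g ∈ L, ∀ x ∈ C, g * x * g⁻¹ ∈ C := fun g hg x hx =>
        ⟨(show g * x * g⁻¹ ∈ L from mul_mem (mul_mem hg hx.1) (inv_mem hg)),
          conj_mem_ptFix (hLU hg) hx.2⟩
      have hjeq : jOf ρ (T : Subgroup G) T1 = jOf ρ (T : Subgroup G) (T1 ⊓ C) := by
        refine le_antisymm (sSup_le fun B hB => ?_) (sSup_le_sSup fun B hB =>
          ⟨hB.1, hB.2.trans inf_le_left⟩)
        exact le_jOf hB.1 (le_inf hB.2 (le_inf (hB.2.trans hT1L)
          (not_not.1 fun h => hnone B ⟨hB.1, h⟩ hB.2)))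
      refine hLSt fun g hg' => ?_
      obtain ⟨c, hc, hcg⟩ := frattini_rel (hT1p.to_le inf_le_left) inf_le_right
        (not_dvd_inf hT1p hT1L hi inf_le_left hLC) hLC hg'
      have h1 : c * g ∈ St := hN1 ⟨mul_mem hc.1 hg', by
        rw [hjeq]; exact mem_normalizer_jOf (inf_le_left.trans hT1T) hcg⟩
      have := mul_mem (inv_mem (hptSt hc.2)) h1
      simpa using this
    -- control by larger subgroups
    have desc : ∀ (k : ℕ) (R : Subgroup G), R ≤ T1 → Nat.card T1 - Nat.card R = k →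
        (∃ B, Moving B ∧ B ≤ R) → L ⊓ normalizer (jOf ρ (T : Subgroup G) R : Set G) ≤ St ∧
          ∀ y ∈ L, conjBy y R ≤ T1 → y ∈ St := by
      intro k
      induction k using Nat.strong_induction_on with
      | _ k ihk =>
      intro R hR hk ⟨B, hB, hBR⟩
      have hRT : R ≤ (T : Subgroup G) := hR.trans hT1T
      rcases eq_or_lt_of_le hR with e | hRlt
      · subst e
        refine ⟨hN1, fun y hy hyR => hN1 ⟨hy, mem_normalizer_jOf hRT ?_⟩⟩
        exact conjBy_eq_iff.1 (CfsgLib.Fusion.conjBy_eq_of_le hyR)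
      have hcard : Nat.card R < Nat.card T1 := lt_of_le_of_ne (card_le_of_le hR)
        fun e => hRlt.ne (eq_of_le_of_card_ge hR e.ge)
      have larger : ∀ R' : Subgroup G, R' ≤ T1 → Nat.card R < Nat.card R' →
          (∃ B, Moving B ∧ B ≤ R') → L ⊓ normalizer (jOf ρ (T : Subgroup G) R' : Set G) ≤ St ∧
            ∀ y ∈ L, conjBy y R' ≤ T1 → y ∈ St :=
        fun R' h1 h2 h3 => ihk _ (by have := card_le_of_le h1; omega) R' h1 rfl h3
      -- normalizer growth
      have grow : ∀ Q : Subgroup G, Q ≤ T1 → Nat.card Q = Nat.card R →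
          Q ≤ T1 ⊓ normalizer (Q : Set G) ∧
            Nat.card R < Nat.card (T1 ⊓ normalizer (Q : Set G) : Subgroup G) := by
        intro Q hQ hQR
        have hlt := CfsgLib.Subnormalizer.lt_inf_normalizer hT1p (lt_of_le_of_ne hQ fun e => by
          rw [e] at hQR; omega)
        refine ⟨hlt.le, hQR ▸ lt_of_le_of_ne (card_le_of_le hlt.le) fun e =>
          hlt.ne (eq_of_le_of_card_ge hlt.le e.ge)⟩
      have hNR : L ⊓ normalizer (jOf ρ (T : Subgroup G) R : Set G) ≤ St := by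
        set J' := jOf ρ (T : Subgroup G) R with hJ'
        set L' := L ⊓ normalizer (J' : Set G) with hL'
        have hL'lt : Nat.card L' < m := by
          refine hm ▸ lt_of_le_of_ne (card_le_of_le inf_le_left) fun e => ?_
          have heq : L' = L := eq_of_le_of_card_ge inf_le_left e.ge
          refine hB.2 fun b hb => ?_
          refine mem_ptFix_transl fun g hg' => ?_
          have hgJ : g⁻¹ * b * g ∈ J' := by
            have h := (Subgroup.mem_normalizer_iff.1 (heq.ge (inv_mem hg')).2 b).1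
              (le_jOf hB.1 hBR hb)
            simpa using h
          have hJkill : J' ≤ ptFix ρ V0 := sSup_le fun B' hB' => hkill B' hB'.1
          exact hJkill hgJ
        set R1 := T1 ⊓ normalizer (R : Set G) with hR1
        obtain ⟨hRR1, hR1card⟩ := grow R hR rfl
        have hR1L' : R1 ≤ L' := le_inf (inf_le_left.trans hT1L)
          fun g hg' => mem_normalizer_jOf hRT hg'.2
        obtain ⟨T3, hR13, hT3L', hT3p, hT3i⟩ := CfsgLib.Fusion.exists_le_not_dvd_relIndex
          (hT1p.to_le (inf_le_left : R1 ≤ T1)) hR1L'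
        obtain ⟨y, hy, hyT3⟩ := CfsgLib.Fusion.exists_conj_le_of_not_dvd_relIndex hT1p hT1L hi
          hT3p (hT3L'.trans inf_le_left)
        have hySt : y ∈ St := (larger R1 inf_le_left hR1card ⟨B, hB, hBR.trans hRR1⟩).2 y hy
          ((conjBy_mono hR13).trans hyT3)
        have hBy : conjBy y B ≤ T1 := (conjBy_mono ((hBR.trans hRR1).trans hR13)).trans hyT3
        have hBy' := hmovconj hB hy (hBy.trans hT1T)
        have hby3 : conjBy y B ≤ conjBy y T3 := conjBy_mono ((hBR.trans hRR1).trans hR13)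
        have hN3 := (larger (conjBy y T3) hyT3
          (by rw [card_conjBy]; exact hR1card.trans_le (card_le_of_le hR13))
          ⟨_, hBy', hby3⟩).1
        have hyL : conjBy y L' ≤ L := conjBy_le_iff.2 fun x hx =>
          mul_mem (mul_mem hy hx.1) (inv_mem hy)
        have := ihm (Nat.card L') hL'lt (conjBy y L') (conjBy y T3) (card_conjBy y L')
          (hyT3.trans hT1T) (conjBy_mono hT3L') (CfsgLib.Fusion.not_dvd_relIndex_conjBy y hT3i)
          ⟨_, hBy'.1, hby3⟩ (le_trans (inf_le_inf_right _ hyL) hN3)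
        intro x hx
        have h1 := mul_mem (mul_mem (inv_mem hySt) (this (conj_mem_conjBy (g := y) hx))) hySt
        simpa [mul_assoc] using h1
      refine ⟨hNR, fun y hy hyR => ?_⟩
      set R' := conjBy y R with hR'
      obtain ⟨hRR1, hR1card⟩ := grow R hR rfl
      obtain ⟨hRR1', hR1card'⟩ := grow R' hyR (card_conjBy y R)
      set R1 := T1 ⊓ normalizer (R : Set G) with hR1
      set R1' := T1 ⊓ normalizer (R' : Set G) with hR1'
      set H := L ⊓ normalizer (R : Set G) with hH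
      have hHSt : H ≤ St := fun g hg' => hNR ⟨hg'.1, mem_normalizer_jOf hRT hg'.2⟩
      obtain ⟨T3, hR13, hT3H, hT3p, hT3i⟩ := CfsgLib.Fusion.exists_le_not_dvd_relIndex
        (hT1p.to_le (inf_le_left : R1 ≤ T1)) (inf_le_inf_right _ hT1L : R1 ≤ H)
      obtain ⟨y3, hy3, hy3T⟩ := CfsgLib.Fusion.exists_conj_le_of_not_dvd_relIndex hT1p hT1L hi
        hT3p (hT3H.trans inf_le_left)
      have hy3St : y3 ∈ St := (larger R1 inf_le_left hR1card ⟨B, hB, hBR.trans hRR1⟩).2 y3 hy3
        ((conjBy_mono hR13).trans hy3T)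
      have hback : conjBy y⁻¹ R1' ≤ H := by
        refine le_inf (conjBy_le_iff.2 fun x hx =>
          mul_mem (mul_mem (inv_mem hy) (hT1L hx.1)) (inv_mem (inv_mem hy))) ?_
        calc conjBy y⁻¹ R1' ≤ conjBy y⁻¹ (normalizer (R' : Set G)) := conjBy_mono inf_le_right
          _ = normalizer (R : Set G) := by
              rw [CfsgLib.Fusion.conjBy_normalizer, hR', conjBy_inv_conjBy]
      obtain ⟨z, hz, hzle⟩ := CfsgLib.Fusion.exists_conj_le_of_not_dvd_relIndex hT3p hT3H hT3i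
        ((hT1p.to_le (inf_le_left : R1' ≤ T1)).map _) hback
      have hw : conjBy (y3 * (z * y⁻¹)) R1' ≤ T1 := by
        rw [← conjBy_conjBy, ← conjBy_conjBy]
        exact (conjBy_mono hzle).trans hy3T
      have hBy' : Moving (conjBy y B) := hmovconj hB hy
        (((conjBy_mono hBR).trans hyR).trans hT1T)
      have hwSt := (larger R1' inf_le_left hR1card' ⟨_, hBy', (conjBy_mono hBR).trans hRR1'⟩).2
        _ (mul_mem hy3 (mul_mem hz.1 (inv_mem hy))) hw
      have h3 := mul_mem (inv_mem hwSt) (mul_mem hy3St (hHSt hz))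
      simpa [mul_assoc] using h3
    -- the stabilizer in `L`
    set M := L ⊓ St with hM
    have hT1M : T1 ≤ M := le_inf hT1L (hT1T.trans (hTN.trans hNSt))
    have hover : ∀ W : Subgroup G, B₁ ≤ W → W ≤ L → W ≠ L → W ≤ St := by
      intro W hBW hWL hne
      obtain ⟨T4, hB4, hT4W, hT4p, hT4i⟩ := CfsgLib.Fusion.exists_le_not_dvd_relIndex
        (hT1p.to_le hB₁T1) hBW
      obtain ⟨y, hy, hyT4⟩ := CfsgLib.Fusion.exists_conj_le_of_not_dvd_relIndex hT1p hT1L hi
        hT4p (hT4W.trans hWL)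
      have hySt : y ∈ St := (desc _ B₁ hB₁T1 rfl ⟨B₁, hB₁, le_rfl⟩).2 y hy
        ((conjBy_mono hB4).trans hyT4)
      have hBy := hmovconj hB₁ hy (((conjBy_mono hB4).trans hyT4).trans hT1T)
      have hN4 := (desc _ (conjBy y T4) hyT4 rfl ⟨_, hBy, conjBy_mono hB4⟩).1
      have hWcard : Nat.card W < m := hm ▸ lt_of_le_of_ne (card_le_of_le hWL)
        fun e => hne (eq_of_le_of_card_ge hWL e.ge)
      have hyW : conjBy y W ≤ L := conjBy_le_iff.2 fun x hx =>
        mul_mem (mul_mem hy (hWL hx)) (inv_mem hy)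
      have := ihm _ hWcard (conjBy y W) (conjBy y T4) (card_conjBy y W) (hyT4.trans hT1T)
        (conjBy_mono hT4W) (CfsgLib.Fusion.not_dvd_relIndex_conjBy y hT4i)
        ⟨_, hBy.1, conjBy_mono hB4⟩ (le_trans (inf_le_inf_right _ hyW) hN4)
      intro x hx
      have h1 := mul_mem (mul_mem (inv_mem hySt) (this (conj_mem_conjBy (g := y) hx))) hySt
      simpa [mul_assoc] using h1
    have gen : ∀ h ∈ L, h ∉ St → B₁ ⊔ conjBy h B₁ = L := by
      intro h hh hhSt
      have hWL : B₁ ⊔ conjBy h B₁ ≤ L := sup_le (hB₁T1.trans hT1L)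
        (conjBy_le_iff.2 fun x hx => mul_mem (mul_mem hh (hT1L (hB₁T1 hx))) (inv_mem hh))
      by_contra hne
      have hle : conjBy h B₁ ≤ M :=
        le_inf (le_sup_right.trans hWL) (le_sup_right.trans (hover _ le_sup_left hWL hne))
      obtain ⟨l, hl, hle'⟩ := CfsgLib.Fusion.exists_conj_le_of_not_dvd_relIndex hT1p hT1M
        (fun hd => hi (hd.trans (Dvd.intro _ (relIndex_mul_relIndex T1 M L hT1M inf_le_left))))
        ((hT1p.to_le hB₁T1).map _) hle
      rw [conjBy_conjBy] at hle'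
      have := (desc _ B₁ hB₁T1 rfl ⟨B₁, hB₁, le_rfl⟩).2 _ (mul_mem hl.1 hh) hle'
      exact hhSt (by simpa using mul_mem (inv_mem (show l ∈ St from hl.2)) this)
    -- pass to the image on `U`
    obtain ⟨G', _, _, π, ρ', hπ, hρ', hc⟩ := exists_image (ρ := ρ) L U hLU
    obtain ⟨T', hT'⟩ := exists_sylow_image hT1p hT1L hi π hπ
    have hB₁L : B₁ ≤ L := hB₁T1.trans hT1L
    have hM' : ∀ g : L, π g ∈ (M.subgroupOf L).map π → (g : G) ∈ St := by
      rintro g ⟨x, hx, hxg⟩
      have hk : x⁻¹ * g ∈ π.ker := by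
        rw [MonoidHom.mem_ker, map_mul, map_inv, hxg, inv_mul_cancel]
      rw [image_ker hρ' hc] at hk
      have := mul_mem hx.2 (hptSt hk)
      simpa using this
    obtain ⟨g₁, hg₁, hg₁St⟩ := SetLike.not_le_iff_exists.1 hLSt
    have hs : Setup ρ' (T' : Subgroup G') ((M.subgroupOf L).map π) ((B₁.subgroupOf L).map π) := by
      refine ⟨fun x => Subtype.ext (h2 x), (hg.subgroup L).quotient π hπ, ⟨T', rfl⟩,
        hT' ▸ map_mono fun x hx => hT1M hx,
        fun e => hg₁St (hM' ⟨g₁, hg₁⟩ (e ▸ mem_top _)), hT' ▸ map_mono fun x hx => hB₁T1 hx,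
        fun e => hB₁.2 fun b hb => ?_, ?_, ?_, ?_⟩
      · have h := (Subgroup.map_eq_bot_iff _).1 e (show (⟨b, hB₁L hb⟩ : L) ∈ B₁.subgroupOf L from hb)
        rwa [image_ker hρ' hc] at h
      · rintro _ ⟨b, hb, rfl⟩
        rw [← map_mul, show b * b = 1 from Subtype.ext (hB₁.1.sq _ hb), map_one]
      · rintro _ ⟨a, ha, rfl⟩ _ ⟨b, hb, rfl⟩ x
        refine Subtype.ext ?_
        have := hB₁.1.quad h2 _ ha _ hb (x : V)
        simpa [delt, hc] using this
      · intro h' hh'
        obtain ⟨h, rfl⟩ := hπ h'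
        have hhSt : (h : G) ∉ St := fun e => hh' (mem_map_of_mem π ⟨h.2, e⟩)
        refine top_le_iff.1 fun x' _ => ?_
        obtain ⟨x, rfl⟩ := hπ x'
        have hle : B₁ ⊔ conjBy (h : G) B₁ ≤ ((((B₁.subgroupOf L).map π) ⊔
            conjBy (π h) ((B₁.subgroupOf L).map π)).comap π).map L.subtype := by
          refine sup_le (fun b hb => ⟨⟨b, hB₁L hb⟩, mem_sup_left (mem_map_of_mem π hb), rfl⟩)
            (conjBy_le_iff.2 fun b hb => ⟨h * ⟨b, hB₁L hb⟩ * h⁻¹, ?_, rfl⟩)
          rw [SetLike.mem_coe, mem_comap, map_mul, map_mul, map_inv]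
          exact mem_sup_right (conj_mem_conjBy (mem_map_of_mem π hb))
        obtain ⟨y, hy, hyx⟩ := hle ((gen h h.2 hhSt).ge x.2)
        rw [← Subtype.ext hyx]; exact hy
    have hV0U' : (V0.subgroupOf U).map U.subtype = V0 := by
      rw [subgroupOf_map_subtype, inf_eq_left.2 hV0U]
    refine hs.false_of_offender hρ' ?_ (V0.subgroupOf U) ?_ ?_ ?_ ?_
    · unfold IsOff
      rw [card_image hρ' hc hB₁L, card_fixOf_image hc hB₁L]
      exact best_restrict hB₁.1.best U
    · refine le_setFix ?_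
      rintro _ ⟨g, hg', rfl⟩ u hu
      show ((ρ' (π g) u : U) : V) ∈ V0
      rw [hc]
      exact apply_mem_of_setFix hg'.2 hu
    · rintro _ ⟨b, hb, rfl⟩ u hu
      refine Subtype.ext ?_
      rw [hc]
      exact hkill B₁ hB₁.1 hb _ hu
    · exact transl_image_eq_top hc rfl le_rfl
    · intro Y hY hY2 hYle
      have hπker : ∀ g : L, π g ∈ ptFix ρ' (V0.subgroupOf U) ↔ (g : G) ∈ ptFix ρ V0 := by
        refine fun g => ⟨fun h u hu => ?_, fun h u hu => Subtype.ext ?_⟩
        · have := congrArg Subtype.val (h ⟨u, hV0U hu⟩ hu)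
          rwa [hc] at this
        · rw [hc]; exact h _ hu
      -- the preimage in the Sylow subgroup
      set X := T1 ⊓ (Y.comap π).map L.subtype with hX
      have hXL : X ≤ L := inf_le_left.trans hT1L
      have hXY : (X.subgroupOf L).map π = Y := by
        refine le_antisymm ?_ fun y hy => ?_
        · rintro _ ⟨x, ⟨-, x', hx', hxx⟩, rfl⟩
          rw [← Subtype.ext hxx]; exact hx'
        · have hyT : y ∈ (T1.subgroupOf L).map π := hT' ▸ hY hy
          obtain ⟨x, hx, rfl⟩ := hyT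
          exact ⟨x, ⟨hx, x, hy, rfl⟩, rfl⟩
      have hXle : X ≤ ptFix ρ V0 := by
        refine hH0 X (inf_le_left.trans hT1T) (fun a ha => ?_) ?_
        · obtain ⟨-, a', ha', rfl⟩ := ha
          refine (hπker (a' * a')).1 ?_
          rw [map_mul, hY2 _ ha']
          exact one_mem _
        · have e1 : (ptFix ρ' (V0.subgroupOf U)).relIndex Y = (ptFix ρ V0).relIndex X := by
            have hcomap : (ptFix ρ' (V0.subgroupOf U)).comap π = (ptFix ρ V0).subgroupOf L :=
              Subgroup.ext fun g => hπker g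
            rw [← hXY, ← relIndex_comap, hcomap, subgroupOf, relIndex_comap,
              subgroupOf_map_subtype, inf_eq_left.2 hXL]
          have e2 : Nat.card (V0.subgroupOf U ⊓ fixOf ρ' Y : Subgroup U) =
              Nat.card (V0 ⊓ fixOf ρ X : Subgroup V) := by
            rw [← hXY, ← Subgroup.card_map_of_injective (K := _ ⊓ _) U.subtype_injective,
              map_inf _ _ _ U.subtype_injective, hV0U', fixOf_image hc hXL, ← inf_assoc,
              inf_eq_left.2 hV0U]
          rw [e1, e2, ← Subgroup.card_map_of_injective (K := V0.subgroupOf U) U.subtype_injective,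
            hV0U'] at hYle
          exact hYle
      intro y hy
      obtain ⟨x, hx, rfl⟩ := hXY.ge hy
      exact (hπker x).2 (hXle hx)
  exact hSttop (top_le_iff.1 (claim _ ⊤ T rfl le_rfl le_top
    (by rw [relIndex_top_right]; exact T.not_dvd_index) ⟨A₀, hA₀, hA₀.1⟩
    (by rw [top_inf_eq]; exact hNSt)))

/-- In a group without sections of type `S₃` acting faithfully on an elementary abelian `2`-group
generated by the translates of the fixed points of a Sylow `2`-subgroup `T`, no nontrivial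
elementary abelian subgroup of `T` offends. -/
theorem offender_eq_bot {G : Type u} [Group G] [Finite G] {V : Type v} [CommGroup V] [Finite V]
    {ρ : G →* MulAut V} (hρ : Function.Injective ρ) (hg : HG G) (h2 : ∀ x : V, x * x = 1)
    (T : Sylow 2 G) (hgen : transl ρ ⊤ (fixOf ρ (T : Subgroup G)) = ⊤)
    {B : Subgroup G} (hBT : B ≤ T) (hB2 : ∀ b ∈ B, b * b = 1) (hoff : IsOff ρ B) : B = ⊥ :=
  offender_eq_bot_aux _ G V ρ rfl hρ hg h2 T hgen B hBT hB2 hoff

end CfsgLib.FourFree
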