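import Cfsg.Agent.Lib.FourFree.TwoFactor
import Cfsg.Agent.Lib.CFun.FamilySection
import Cfsg.Agent.Lib.Fusion.StableClosureBasic
import Cfsg.Agent.Lib.LocalStructure.QdPrime

/-!
# Control of strong fusion by the centre and the Thompson subgroup

In the absence of a section `S₄` the centre and the Thompson subgroup together control strong
`2`-fusion; in `Qd(p)` no family of isomorphism-invariant functors controls strong `p`-fusion.
-/

set_option autoImplicit false
set_option linter.style.haveILetI false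

open Subgroup
open CfsgLib.Fusion (conjBy mem_conjBy conj_mem_conjBy conjBy_le_iff conjBy_eq_iff conjBy_mono
  conjBy_conjBy)
open CfsgLib.CFun (indFam Reach Chain StrongAtF FamCtrl)

namespace CfsgLib.FourFree

universe u

/-- The centre, as a functor. -/
def centerFun (Q : Type u) [Group Q] : Subgroup Q := Subgroup.center Q

/-- The Thompson subgroup for the prime two, as a functor. -/
def thompsonFun (Q : Type u) [Group Q] : Subgroup Q := Cfsg.thompsonSubgroup 2 Q

/-- The family of the two functors. -/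
def pairFamily : Set (∀ (Q : Type u) [Group Q], Subgroup Q) := {centerFun, thompsonFun}

theorem isCharPFunctor_center : Cfsg.IsCharPFunctor.{u} 2 centerFun := by
  haveI : Fact (Nat.Prime 2) := ⟨Nat.prime_two⟩
  refine ⟨fun Q _ _ hQ _ => ?_, fun Q R _ _ _ _ φ => ?_⟩
  · haveI := hQ.center_nontrivial
    exact (Subgroup.nontrivial_iff_ne_bot _).1 this
  · show (Subgroup.center Q).map φ.toMonoidHom = Subgroup.center R
    ext y
    rw [Subgroup.mem_center_iff]
    constructor
    · rintro ⟨x, hx, rfl⟩ z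
      obtain ⟨w, rfl⟩ := φ.surjective z
      show φ w * φ x = φ x * φ w
      rw [← map_mul, Subgroup.mem_center_iff.1 hx w, map_mul]
    · intro hy
      refine ⟨φ.symm y, Subgroup.mem_center_iff.2 fun w => φ.injective ?_, φ.apply_symm_apply y⟩
      rw [map_mul, map_mul, φ.apply_symm_apply]
      exact hy _

theorem isCharPFunctor_thompson : Cfsg.IsCharPFunctor.{u} 2 thompsonFun := by
  haveI : Fact (Nat.Prime 2) := ⟨Nat.prime_two⟩
  refine ⟨fun Q _ _ hQ _ h => ?_, fun Q R _ _ _ _ φ =>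
    CfsgLib.Fusion.thompsonSubgroup_map_equiv (p := 2) φ⟩
  refine CfsgLib.Fusion.thompsonSubgroupOf_ne_bot (p := 2) (P := (⊤ : Subgroup Q))
    (hQ.to_subgroup _) top_ne_bot ?_
  show (Cfsg.thompsonSubgroup 2 (⊤ : Subgroup Q)).map (⊤ : Subgroup Q).subtype = ⊥
  have := CfsgLib.Fusion.thompsonSubgroup_map_equiv (p := 2) (Subgroup.topEquiv (G := Q))
  exact this.trans h

theorem isCharPFunctor_pair : ∀ W ∈ pairFamily.{u}, Cfsg.IsCharPFunctor.{u} 2 W := by
  rintro W (rfl | rfl)
  · exact isCharPFunctor_center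
  · exact isCharPFunctor_thompson

theorem induced_center {G : Type u} [Group G] (P : Subgroup G) :
    Cfsg.inducedFunctor centerFun P = P ⊓ centralizer (P : Set G) := by
  ext x
  constructor
  · rintro ⟨⟨y, hy⟩, hc, rfl⟩
    exact ⟨hy, mem_centralizer_iff.2 fun z hz =>
      congrArg Subtype.val (Subgroup.mem_center_iff.1 hc ⟨z, hz⟩)⟩
  · intro hx
    exact ⟨⟨x, hx.1⟩, Subgroup.mem_center_iff.2 fun z => Subtype.ext
      (mem_centralizer_iff.1 hx.2 z z.2), rfl⟩

theorem indFam_pair (G : Type u) [Group G] :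
    indFam G pairFamily = ({fun P : Subgroup G => P ⊓ centralizer (P : Set G),
      fun P : Subgroup G => Cfsg.thompsonSubgroupOf 2 P} : Set (Subgroup G → Subgroup G)) := by
  show (fun W => Cfsg.inducedFunctor (G := G) W) '' ({centerFun, thompsonFun} : Set _) = _
  rw [Set.image_pair]
  congr 1
  exact funext induced_center

section

variable {Y : Type u} [Group Y] [Finite Y]

/-- Fusion in the Sylow subgroup of a constrained group without section `S₄` is realised in two
steps. -/
theorem fusion_two_steps (hfree : ¬ Cfsg.Involves (Equiv.Perm (Fin 4)) Y)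
    (hcon : centralizer (Cfsg.pCore 2 Y : Set Y) ≤ Cfsg.pCore 2 Y) (T : Sylow 2 Y)
    (A : Set Y) (g : Y) (hA : ∀ a ∈ A, a ∈ (T : Subgroup Y))
    (hgA : ∀ a ∈ A, g * a * g⁻¹ ∈ (T : Subgroup Y)) :
    ∃ c ∈ centralizer (((T : Subgroup Y) ⊓ centralizer ((T : Subgroup Y) : Set Y) :
        Subgroup Y) : Set Y),
      ∃ m ∈ normalizer ((Cfsg.thompsonSubgroupOf 2 (T : Subgroup Y) : Subgroup Y) : Set Y),
        g = c * m ∧ ∀ a ∈ A, m * a * m⁻¹ ∈ (T : Subgroup Y) := by
  haveI : Fact (Nat.Prime 2) := ⟨Nat.prime_two⟩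
  obtain ⟨c, hc, n, hn, rfl⟩ := two_factor hfree hcon T g
  set CZ := centralizer (((T : Subgroup Y) ⊓ centralizer ((T : Subgroup Y) : Set Y) :
    Subgroup Y) : Set Y) with hCZ
  set NJ := normalizer ((Cfsg.thompsonSubgroupOf 2 (T : Subgroup Y) : Subgroup Y) : Set Y) with hNJ
  have hTZ : (T : Subgroup Y) ≤ CZ := fun t ht =>
    mem_centralizer_iff.2 fun z hz => (mem_centralizer_iff.1 hz.2 t ht).symm
  have hTN : (T : Subgroup Y) ≤ NJ :=
    le_normalizer.trans (CfsgLib.Fusion.normalizer_le_normalizer_thompsonSubgroupOf _)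
  set P := conjBy n (closure A) with hP
  have hcl : closure A ≤ (T : Subgroup Y) := (closure_le _).2 hA
  have hPH : P ≤ CZ ⊓ NJ := by
    refine conjBy_le_iff.2 fun a ha => ?_
    have h1 : n * a * n⁻¹ ∈ NJ := mul_mem (mul_mem hn (hTN (hcl ha))) (inv_mem hn)
    refine ⟨?_, h1⟩
    have h2 : conjBy (c * n) (closure A) ≤ (T : Subgroup Y) := by
      rw [conjBy, MonoidHom.map_closure, closure_le]
      rintro _ ⟨b, hb, rfl⟩
      show c * n * b * (c * n)⁻¹ ∈ (T : Subgroup Y)
      exact hgA b hb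
    have h3 := hTZ (h2 (conj_mem_conjBy (g := c * n) ha))
    have h4 := mul_mem (mul_mem (inv_mem hc) h3) hc
    show n * a * n⁻¹ ∈ CZ
    rw [show n * a * n⁻¹ = c⁻¹ * (c * n * a * (c * n)⁻¹) * c by group]
    exact h4
  obtain ⟨d, hd, hdP⟩ := CfsgLib.Fusion.exists_conj_le_of_not_dvd_relIndex T.2 (le_inf hTZ hTN)
    (fun hd => T.not_dvd_index (hd.trans (relIndex_dvd_index_of_le (le_inf hTZ hTN))))
    ((T.2.to_le hcl).map _) hPH
  rw [conjBy_conjBy] at hdP
  refine ⟨c * d⁻¹, mul_mem hc (inv_mem hd.1), d * n, mul_mem hd.2 hn, by group, fun a ha => ?_⟩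
  exact hdP (conj_mem_conjBy (g := d * n) (subset_closure ha))

/-- In a constrained group without section `S₄` the centre and the Thompson subgroup control strong
fusion. -/
theorem strongAtF_pair (hfree : ¬ Cfsg.Involves (Equiv.Perm (Fin 4)) Y)
    (hcon : centralizer (Cfsg.pCore 2 Y : Set Y) ≤ Cfsg.pCore 2 Y) (T : Sylow 2 Y) :
    StrongAtF pairFamily (T : Subgroup Y) := by
  intro A g hA hgA
  obtain ⟨c, hc, m, hm, rfl, hmA⟩ := fusion_two_steps hfree hcon T A g hA hgA
  have hmem : ∀ W ∈ ({centerFun, thompsonFun} : Set (∀ (Q : Type u) [Group Q], Subgroup Q)),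
      Cfsg.inducedFunctor (G := Y) W ∈ indFam Y pairFamily := fun W hW => ⟨W, hW, rfl⟩
  have hc' : c ∈ normalizer ((Cfsg.inducedFunctor centerFun (T : Subgroup Y) : Subgroup Y) : Set Y) := by
    rw [induced_center]
    exact centralizer_le_normalizer _ hc
  refine ⟨c * (m * 1), .step (m * 1) _ c (.step 1 _ m (.one hA) (hmem thompsonFun (Or.inr rfl))
    ⟨mem_top _, hm⟩ fun a ha => by rw [mul_one]; exact hmA a ha)
    (hmem centerFun (Or.inl rfl)) ⟨mem_top _, hc'⟩ (fun a ha => by rw [mul_one]; exact hgA a ha),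
    fun a _ => by rw [mul_one]⟩

/-- Without a section `S₄` the centre and the Thompson subgroup control strong fusion. -/
theorem famCtrl_pair (hfree : ¬ Cfsg.Involves (Equiv.Perm (Fin 4)) Y) :
    FamCtrl 2 pairFamily Y := by
  haveI : Fact (Nat.Prime 2) := ⟨Nat.prime_two⟩
  refine CfsgLib.CFun.famCtrl_of_constrained isCharPFunctor_pair _ Y rfl fun X _ _ hX hcon => ?_
  obtain ⟨K, R, hR, ⟨e⟩⟩ := hX
  haveI := hR
  obtain ⟨T⟩ := (inferInstance : Nonempty (Sylow 2 X))
  refine CfsgLib.CFun.famCtrl_of_strongAtF T (strongAtF_pair (fun h => hfree ?_) hcon T)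
  exact CfsgLib.Fusion.involves_of_injective K.subtype K.subtype_injective
    (CfsgLib.Fusion.involves_of_surjective (QuotientGroup.mk' (R.subgroupOf K))
      (QuotientGroup.mk'_surjective _)
      (CfsgLib.Fusion.involves_of_injective e.symm.toMonoidHom e.symm.injective h))

end

section Qd

open CfsgLib.LS.QdF (P0 el el_mul el_inj lin lin_el el_lin_co co mem_transl_iff mem_P0_iff el_mem_P0)
open CfsgLib.Qd (up)

variable {p : ℕ} [Fact p.Prime]

/-- In `Qd(p)` no family of isomorphism-invariant functors controls strong fusion. -/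
theorem qd_not_famCtrl {X : Type u} [Group X] [Finite X] (e : X ≃* ↥(Cfsg.qdOver (ZMod p)))
    {𝓦 : Set (∀ (Q : Type u) [Group Q], Subgroup Q)}
    (h𝓦 : ∀ W ∈ 𝓦, Cfsg.IsCharPFunctor.{u} p W) : ¬ FamCtrl p 𝓦 X := by
  intro hctl
  set P := (P0 p).comap e.toMonoidHom with hP
  have hPp : IsPGroup p P :=
    CfsgLib.LS.QdF.P0_isPGroup.comap_of_injective e.toMonoidHom e.injective
  have hPi : ¬ p ∣ P.index := by
    rw [hP, Subgroup.index_comap_of_surjective _ e.surjective]
    exact CfsgLib.LS.QdF.P0_not_dvd_index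
  let S : Sylow p X := hPp.toSylow hPi
  have hS : (S : Subgroup X) = P := rfl
  -- the normalizers of the values normalize `P`
  have hNle : ∀ W ∈ 𝓦, normalizer ((Cfsg.inducedFunctor W P : Subgroup X) : Set X) ≤
      normalizer (P : Set X) := by
    intro W hW
    set R := Cfsg.inducedFunctor W P with hR
    have hPN : P ≤ normalizer (R : Set X) := fun x hx => by
      refine conjBy_eq_iff.1 ?_
      rw [hR, conjBy, ← CfsgLib.CFun.induced_map (h𝓦 W hW) hPp _ (MulAut.conj x).injective]
      exact congrArg _ (conjBy_eq_iff.2 (le_normalizer hx))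
    by_contra hle
    have hP0 : P0 p ≤ (normalizer (R : Set X)).map e.toMonoidHom := fun y hy =>
      ⟨e.symm y, hPN (show e (e.symm y) ∈ P0 p by rwa [e.apply_symm_apply]), e.apply_symm_apply y⟩
    have htop := CfsgLib.LS.QdF.eq_top_of_not_le_normalizer hP0 fun h => hle fun x hx => by
      refine Subgroup.mem_normalizer_iff.2 fun y => ?_
      have h' := Subgroup.mem_normalizer_iff.1 (h (mem_map_of_mem _ hx)) (e y)
      simpa [hP] using h'
    haveI hRn : R.Normal := normalizer_eq_top_iff.1 (top_le_iff.1 fun x _ => by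
      obtain ⟨z, hz, hze⟩ := htop.ge (mem_top (e x))
      rwa [← e.injective hze])
    haveI : (R.map e.toMonoidHom).Normal := hRn.map _ e.surjective
    have hPne : P ≠ ⊥ := fun h => hPi (by
      have hdvd : p ∣ Nat.card X := by
        rw [Nat.card_congr e.toEquiv, CfsgLib.LS.QdF.card_qd]
        exact Dvd.dvd.mul_left (dvd_pow_self p two_ne_zero) _
      rwa [h, Subgroup.index_bot])
    have hRmap := CfsgLib.LS.QdF.eq_transl_of_normal (R := R.map e.toMonoidHom)
      ((hPp.to_le (CfsgLib.CFun.induced_le W P)).map _) fun h =>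
        CfsgLib.CFun.induced_ne_bot (h𝓦 W hW) hPp hPne
          ((Subgroup.map_eq_bot_iff_of_injective _ e.injective).1 h)
    -- the exchanging automorphism
    obtain ⟨φ, hφ⟩ := CfsgLib.LS.QdF.exists_swap (p := p)
    let eP : P ≃* P0 p :=
      { toFun := fun x => ⟨e x, x.2⟩
        invFun := fun y => ⟨e.symm y, show e (e.symm y) ∈ P0 p by simp⟩
        left_inv := fun x => Subtype.ext (e.symm_apply_apply x)
        right_inv := fun y => Subtype.ext (e.apply_symm_apply y)
        map_mul' := fun x y => Subtype.ext (map_mul e (x : X) y) }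
    let ψ : P ≃* P := eP.trans (φ.trans eP.symm)
    set v : P := eP.symm ⟨el (up 0) ![0, 1], el_mem_P0 _ _⟩ with hv
    have hev : e (v : X) = el (up 0) ![0, 1] := e.apply_symm_apply _
    have hup0 : up (0 : ZMod p) = 1 := CfsgLib.Qd.ext2 (by simp) (by simp) (by simp) (by simp)
    have hvR : (v : X) ∈ R := by
      have : e (v : X) ∈ R.map e.toMonoidHom := by
        rw [hRmap, hev, hup0]; exact mem_transl_iff.2 ⟨_, rfl⟩
      obtain ⟨z, hz, hze⟩ := this
      rwa [← e.injective hze]
    obtain ⟨w, hw, hwv⟩ := hvR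
    have hψ : ψ w ∈ W P := by
      rw [← (h𝓦 W hW).2 P P hPp ψ]
      exact mem_map_of_mem _ hw
    have h1 : (ψ w : X) ∈ R := ⟨_, hψ, rfl⟩
    have h2 : e (ψ w : X) ∈ (lin (F := ZMod p)).ker := hRmap.le ⟨_, h1, rfl⟩
    rw [show w = v from Subtype.ext hwv] at h2
    have h3 : e (ψ v : X) = el (up (-(![0, 1] : Fin 2 → ZMod p) 1)) ![0 * 1 - 0, -0] := by
      have : e (ψ v : X) = ((φ ⟨el (up 0) ![0, 1], el_mem_P0 _ _⟩ : P0 p) : Cfsg.qdOver (ZMod p)) := by
        show e ((eP.symm (φ (eP v))) : X) = _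
        rw [hv, eP.apply_symm_apply]
        exact e.apply_symm_apply _
      rw [this, hφ]
      simp
    rw [h3, MonoidHom.mem_ker, lin_el] at h2
    have := congrArg (fun A : Matrix.SpecialLinearGroup (Fin 2) (ZMod p) => A.1 0 1) h2
    simp [up] at this
  -- the fusion that is not realised
  let J : Matrix.SpecialLinearGroup (Fin 2) (ZMod p) :=
    ⟨!![0, -1; 1, 0], by simp [Matrix.det_fin_two]⟩
  set g := e.symm (el J 0) with hg
  set a := e.symm (el 1 ![1, 0]) with ha
  have hup0 : up (0 : ZMod p) = 1 := CfsgLib.Qd.ext2 (by simp) (by simp) (by simp) (by simp)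
  have hmemP : ∀ w, e.symm (el (1 : Matrix.SpecialLinearGroup (Fin 2) (ZMod p)) w) ∈ P := fun w => by
    show e (e.symm _) ∈ P0 p
    rw [e.apply_symm_apply, ← hup0]; exact el_mem_P0 0 w
  have hga : g * a * g⁻¹ = e.symm (el 1 ![0, 1]) := by
    rw [mul_inv_eq_iff_eq_mul, hg, ha, ← map_mul, ← map_mul, el_mul, el_mul]
    congr 1
    refine congrArg₂ el (by simp) (funext fun i => ?_)
    fin_cases i <;> simp [J]
  obtain ⟨c, hc, hce⟩ := CfsgLib.CFun.strongAtF_of_famCtrl h𝓦 hctl S {a} g
    (by rintro b rfl; exact hmemP _) (by rintro b rfl; rw [hga]; exact hmemP _)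
  have hcN : c ∈ normalizer (P : Set X) := by
    clear hce
    induction hc with
    | one _ => exact one_mem _
    | step c W w _ hW hw _ ih =>
      obtain ⟨W', hW', rfl⟩ := hW
      exact mul_mem (hNle W' hW' hw.2) ih
  have h10 : (lin (e c)).1 1 0 = 0 := by
    obtain ⟨b, hb⟩ : ∃ b, lin (e (c * e.symm (el (up 1) 0) * c⁻¹)) = up b :=
      (Subgroup.mem_normalizer_iff.1 hcN _).1
        (show e (e.symm (el (up 1) 0)) ∈ P0 p by rw [e.apply_symm_apply]; exact el_mem_P0 1 0)
    rw [map_mul e, map_mul e, map_inv e, e.apply_symm_apply, map_mul, map_mul, map_inv, lin_el] at hb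
    obtain ⟨-, -, h2, -⟩ := CfsgLib.Qd.conj_up (lin (e c)) (1 : ZMod p)
    rw [hb] at h2
    simpa [up] using h2
  have h := hce a rfl
  rw [hga, mul_inv_eq_iff_eq_mul] at h
  have h' := congrArg e h
  rw [map_mul, map_mul, ha, e.apply_symm_apply, e.apply_symm_apply, ← el_lin_co (e c), el_mul,
    el_mul] at h'
  have h5 := congrFun (el_inj h').2 1
  simp [h10] at h5

/-- A group involving `Qd(p)` has a section in which no family controls strong fusion. -/
theorem exists_section_not_famCtrl {G : Type u} [Group G] [Finite G]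
    (h : Cfsg.Involves ↥(Cfsg.qd p) G) {𝓦 : Set (∀ (Q : Type u) [Group Q], Subgroup Q)}
    (h𝓦 : ∀ W ∈ 𝓦, Cfsg.IsCharPFunctor.{u} p W) :
    ∃ (K R : Subgroup G) (_ : (R.subgroupOf K).Normal),
      ¬ FamCtrl p 𝓦 (↥K ⧸ R.subgroupOf K) := by
  obtain ⟨K, R, hR, ⟨e⟩⟩ := h
  haveI := hR
  exact ⟨K, R, hR, qd_not_famCtrl e h𝓦⟩

end Qd

end CfsgLib.FourFree
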