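import Cfsg.Agent.Lib.FourFree.NoOffender
import Cfsg.Agent.Lib.CFun.FourFreeThompson

/-!
# The two-factorization of groups without a section `S₄`

If `S₄` is not involved in `Y` and `O₂(Y)` contains its centralizer, then for a Sylow `2`-subgroup
`T` every element is the product of an element centralizing the centre of `T` and one normalizing
the Thompson subgroup of `T`.
-/

set_option autoImplicit false
set_option linter.style.haveILetI false

open Subgroup
open CfsgLib.Fusion (conjBy mem_conjBy conj_mem_conjBy conjBy_le_iff conjBy_eq_iff conjBy_mono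
  conjBy_conjBy card_conjBy maxEA)
open CfsgLib.CFun (delt fixOf IsOff mem_fixOf card_mul_relIndex')

namespace CfsgLib.FourFree

universe u v

/-- An element inverting `x` may be chosen of `2`-power order. -/
theorem exists_two_inverting {G : Type u} [Group G] [Finite G] {a x : G}
    (hax : a * x * a⁻¹ = x⁻¹) : ∃ (c : G) (k : ℕ), c ^ (2 ^ k) = 1 ∧ c * x * c⁻¹ = x⁻¹ := by
  obtain ⟨e, m, hm, hem⟩ := Nat.exists_eq_two_pow_mul_odd (orderOf_pos a).ne'
  refine ⟨a ^ m, e, by rw [← pow_mul, mul_comm, ← hem, pow_orderOf_eq_one], ?_⟩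
  obtain ⟨j, rfl⟩ := hm
  have h2 : ∀ j : ℕ, a ^ (2 * j) * x * (a ^ (2 * j))⁻¹ = x := by
    intro j
    induction j with
    | zero => simp
    | succ j ih =>
      have h1 : a * x⁻¹ * a⁻¹ = x := by rw [← conj_inv, hax, inv_inv]
      calc a ^ (2 * (j + 1)) * x * (a ^ (2 * (j + 1)))⁻¹
          = a ^ (2 * j) * (a * (a * x * a⁻¹) * a⁻¹) * (a ^ (2 * j))⁻¹ := by
            rw [mul_add, pow_add, mul_one, pow_two]; group
        _ = x := by rw [hax, h1, ih]
  calc a ^ (2 * j + 1) * x * (a ^ (2 * j + 1))⁻¹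
      = a * (a ^ (2 * j) * x * (a ^ (2 * j))⁻¹) * a⁻¹ := by rw [pow_succ']; group
    _ = x⁻¹ := by rw [h2, hax]

/-- A faithful image on an elementary section of a group without section `S₄` has `HG`. -/
theorem hg_of_not_involves {Y : Type u} [Group Y] [Finite Y]
    (hfree : ¬ Cfsg.Involves (Equiv.Perm (Fin 4)) Y) {E : Subgroup Y} {G : Type u} {V : Type v}
    [CommGroup V] [Finite V] [Group G] [Finite G] (π : Y →* G) (hπ : Function.Surjective π)
    (σ : E →* V) (hσ : Function.Surjective σ) {ρ : G →* MulAut V} (hρ : Function.Injective ρ)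
    (hEn : E.Normal)
    (hcompat : ∀ (g : Y) (e : E), ρ (π g) (σ e) = σ ⟨g * e * g⁻¹, hEn.conj_mem e e.2 g⟩)
    (hEc : ∀ a ∈ E, ∀ b ∈ E, Commute a b) (h2 : ∀ v : V, v * v = 1) : HG G := by
  intro a₀ z hz hinv
  by_contra hz1
  obtain ⟨a, k, hak, haz⟩ := exists_two_inverting hinv
  have hmul : ∀ (g h : G) (v : V), ρ g (ρ h v) = ρ (g * h) v := fun g h v => by
    rw [map_mul, MulAut.mul_apply]
  have hzz : z * z = z⁻¹ := by
    refine eq_inv_of_mul_eq_one_left ?_
    rwa [← pow_two, ← pow_succ]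
  have haz' : a * z = z * z * a := by rw [hzz, ← haz]; group
  -- the fixed point of `a` among the elements of norm one
  let Vz : Subgroup V :=
    { carrier := {v | v * ρ z v * ρ (z * z) v = 1}
      one_mem' := by simp
      mul_mem' := fun {v w} hv hw => by
        show v * w * ρ z (v * w) * ρ (z * z) (v * w) = 1
        calc v * w * ρ z (v * w) * ρ (z * z) (v * w)
            = (v * ρ z v * ρ (z * z) v) * (w * ρ z w * ρ (z * z) w) := by
              simp only [map_mul, mul_comm, mul_assoc, mul_left_comm]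
          _ = 1 := by rw [show v * ρ z v * ρ (z * z) v = 1 from hv,
            show w * ρ z w * ρ (z * z) w = 1 from hw, one_mul]
      inv_mem' := fun {v} hv => by
        show v⁻¹ * ρ z v⁻¹ * ρ (z * z) v⁻¹ = 1
        rw [map_inv, map_inv, ← mul_inv, ← mul_inv, show v * ρ z v * ρ (z * z) v = 1 from hv,
          inv_one] }
  have hVz : Vz ≠ ⊥ := by
    obtain ⟨v, hv⟩ : ∃ v, ρ z v ≠ v := by
      by_contra h
      push Not at h
      exact hz1 (hρ (MulEquiv.ext fun v => by rw [h v, map_one, MulAut.one_apply]))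
    intro e
    have hw : ρ z v * v ∈ Vz := by
      show ρ z v * v * ρ z (ρ z v * v) * ρ (z * z) (ρ z v * v) = 1
      simp only [map_mul ρ, MulAut.mul_apply, map_mul (ρ z)]
      have h3 : ρ z (ρ z (ρ z v)) = v := by
        rw [hmul, hmul, show z * z * z = 1 by rw [← pow_two, ← pow_succ]; exact hz, map_one,
          MulAut.one_apply]
      rw [h3]
      calc ρ z v * v * (ρ z (ρ z v) * ρ z v) * (v * ρ z (ρ z v))
          = (ρ z v * ρ z v) * (v * v) * (ρ z (ρ z v) * ρ z (ρ z v)) := by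
            simp only [mul_comm, mul_assoc, mul_left_comm]
        _ = 1 := by simp [h2]
    rw [e, mem_bot, mul_eq_one_iff_eq_inv, inv_eq_of_mul_eq_one_right (h2 v)] at hw
    exact hv hw
  have haVz : zpowers a ≤ setFix ρ Vz := by
    refine zpowers_le.2 ?_
    have h1 : ∀ g : G, g * z * g⁻¹ = z⁻¹ → ∀ v ∈ Vz, ρ g v ∈ Vz := by
      intro g hg v hv
      show ρ g v * ρ z (ρ g v) * ρ (z * z) (ρ g v) = 1
      have e1 : ρ z (ρ g v) = ρ g (ρ (z * z) v) := by
        rw [hmul, hmul, hzz, show z * g = g * z⁻¹ by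
          have h' : g * z⁻¹ * g⁻¹ = z := by rw [← conj_inv, hg, inv_inv]
          calc z * g = g * z⁻¹ * g⁻¹ * g := by rw [h']
            _ = g * z⁻¹ := by group]
      have e2 : ρ (z * z) (ρ g v) = ρ g (ρ z v) := by
        rw [hmul, hmul, hzz, show z⁻¹ * g = g * z by rw [← hg]; group]
      rw [e1, e2, ← map_mul, ← map_mul, mul_right_comm, show v * ρ z v * ρ (z * z) v = 1 from hv,
        map_one]
    exact ⟨h1 a haz, h1 a⁻¹ (by
      have : a * z⁻¹ * a⁻¹ = z := by rw [← conj_inv, haz, inv_inv]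
      rw [inv_inv]
      calc a⁻¹ * z * a = a⁻¹ * (a * z⁻¹ * a⁻¹) * a := by rw [this]
        _ = z⁻¹ := by group)⟩
  have ha2 : IsPGroup 2 (zpowers a) := by
    rintro ⟨g, hg⟩
    obtain ⟨i, rfl⟩ := mem_zpowers_iff.1 hg
    refine ⟨k, Subtype.ext ?_⟩
    simp only [SubmonoidClass.coe_pow, OneMemClass.coe_one]
    rw [← zpow_natCast, ← zpow_mul, mul_comm, zpow_mul, zpow_natCast, hak, one_zpow]
  obtain ⟨u, huVz, hu1, hua⟩ := exists_fixed h2 ha2 hVz haVz
  have hau : ρ a u = u := mem_fixOf.1 hua a (mem_zpowers a)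
  set w := ρ z u with hw
  have hzw : ρ z w = u * w := by
    have h : u * w * ρ (z * z) u = 1 := huVz
    rw [hw, hmul]
    refine (eq_inv_of_mul_eq_one_right h).trans ?_
    exact inv_eq_of_mul_eq_one_right (h2 _)
  have hw1 : w ≠ 1 := fun e => hu1 ((ρ z).injective (by rw [← hw, e, map_one]))
  have huw : u ≠ w := fun e => hu1 (by
    have := hzw
    rw [← e, h2, ← hw, ← e] at this
    exact this)
  -- the four-group
  set W0 := closure ({u, w} : Set V) with hW0
  have huW : u ∈ W0 := subset_closure (Or.inl rfl)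
  have hwW : w ∈ W0 := subset_closure (Or.inr rfl)
  have haw : ρ a w = u * w := by
    rw [hw, hmul, haz', map_mul, MulAut.mul_apply, hau, ← hmul, ← hw, hzw]
  have hzW : z ∈ setFix ρ W0 := by
    have h1 : W0 ≤ W0.comap (ρ z : V ≃* V).toMonoidHom := (closure_le _).2 (by
      intro y hy
      rcases hy with hy | hy <;> rw [show y = _ from hy]
      · exact hwW
      · show ρ z w ∈ W0
        rw [hzw]; exact mul_mem huW hwW)
    refine ⟨fun v hv => h1 hv, fun v hv => ?_⟩
    rw [← hzz, ← hmul]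
    exact h1 (h1 hv)
  have haW : a ∈ setFix ρ W0 := by
    have h1 : W0 ≤ W0.comap (ρ a : V ≃* V).toMonoidHom := (closure_le _).2 (by
      intro y hy
      rcases hy with hy | hy <;> rw [show y = _ from hy]
      · show ρ a u ∈ W0
        rw [hau]; exact huW
      · show ρ a w ∈ W0
        rw [haw]; exact mul_mem huW hwW)
    have h2' : W0 ≤ W0.comap (ρ (a * a) : V ≃* V).toMonoidHom := fun v hv => by
      show ρ (a * a) v ∈ W0
      rw [← hmul]; exact h1 (h1 hv)
    refine le_setFix (H := zpowers a) (fun g hg v hv => ?_) (mem_zpowers a)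
    rw [← IsOfFinOrder.mem_powers_iff_mem_zpowers (isOfFinOrder_of_finite a)] at hg
    obtain ⟨i, rfl⟩ := hg
    induction i generalizing v with
    | zero => simpa using hv
    | succ i ih =>
      show ρ (a ^ (i + 1)) v ∈ W0
      rw [pow_succ, ← hmul]
      exact ih _ (h1 hv)
  obtain ⟨G', _, _, π', ρ', hπ', hρ', hc⟩ := exists_image (ρ := ρ) (setFix ρ W0) W0 le_rfl
  -- the conjugation data on the preimages
  set Y' := (setFix ρ W0).comap π with hY'
  have hEY : E ≤ Y' := fun e he => by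
    have : π e = 1 := hρ (MulEquiv.ext fun v => by
      obtain ⟨x, rfl⟩ := hσ v
      rw [hcompat, map_one, MulAut.one_apply]
      exact congrArg σ (Subtype.ext (by
        show e * (x : Y) * e⁻¹ = x
        rw [(hEc e he x x.2).eq, mul_inv_cancel_right])))
    show π e ∈ setFix ρ W0
    rw [this]; exact one_mem _
  set E' := (W0.comap σ).map E.subtype with hE'
  have hE'E : E' ≤ E := map_subtype_le _
  set E'' := E'.subgroupOf Y' with hE''
  let π'' : Y' →* G' := π'.comp (π.subgroupComap (setFix ρ W0))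
  have hσmem : ∀ e : E'', σ ⟨((e : Y') : Y), hE'E e.2⟩ ∈ W0 := fun e => by
    obtain ⟨x, hx, hxe⟩ := (show ((e : Y') : Y) ∈ E' from e.2)
    rw [show (⟨((e : Y') : Y), hE'E e.2⟩ : E) = x from Subtype.ext hxe.symm]
    exact hx
  let σ' : E'' →* W0 :=
    { toFun := fun e => ⟨σ ⟨((e : Y') : Y), hE'E e.2⟩, hσmem e⟩
      map_one' := Subtype.ext (map_one σ)
      map_mul' := fun e f => Subtype.ext (map_mul σ ⟨((e : Y') : Y), hE'E e.2⟩
        ⟨((f : Y') : Y), hE'E f.2⟩) }
  have hE''n : E''.Normal := ⟨fun e he g => by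
    obtain ⟨x, hx, hxe⟩ := (show (e : Y) ∈ E' from he)
    refine ⟨⟨g * x * (g : Y)⁻¹, hEn.conj_mem x x.2 g⟩, ?_, ?_⟩
    · show σ _ ∈ W0
      rw [← hcompat]
      exact apply_mem_of_setFix (show π (g : Y) ∈ setFix ρ W0 from g.2) hx
    · show (g : Y) * x * (g : Y)⁻¹ = g * e * (g : Y)⁻¹
      rw [show (x : Y) = e from hxe]⟩
  have hσ' : Function.Surjective σ' := fun v => by
    obtain ⟨x, hx⟩ := hσ v
    have hxE' : (x : Y) ∈ E' := ⟨x, (show σ x ∈ W0 from hx ▸ v.2), rfl⟩
    exact ⟨⟨⟨x, hEY x.2⟩, hxE'⟩, Subtype.ext hx⟩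
  have hcompat' : ∀ (g : Y') (e : E''),
      ρ' (π'' g) (σ' e) = σ' ⟨g * e * g⁻¹, hE''n.conj_mem e e.2 g⟩ := fun g e => by
    refine Subtype.ext ?_
    rw [MonoidHom.comp_apply, hc]
    exact hcompat _ _
  have hno : CfsgLib.CFun.NoThree ρ' :=
    CfsgLib.CFun.noThree_of_not_involves (fun h => hfree
      (CfsgLib.Fusion.involves_of_injective Y'.subtype Y'.subtype_injective h)) π''
      (hπ'.comp (MonoidHom.subgroupComap_surjective_of_surjective π _ hπ)) σ' hσ' ρ' hE''n hcompat'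
      (fun e he f hf => Subtype.ext (hEc _ (hE'E he) _ (hE'E hf)).eq) (fun v => Subtype.ext (h2 v))
  have haa : π' ⟨a, haW⟩ * π' ⟨a, haW⟩ = 1 := by
    refine hρ' (MulEquiv.ext fun v => Subtype.ext ?_)
    rw [map_one, MulAut.one_apply, ← map_mul π', hc]
    show ρ (a * a) (v : V) = v
    have hfix : W0 ≤ fixOf ρ (zpowers (a * a)) := (closure_le _).2 (by
      intro x hx
      refine mem_fixOf.2 fun g hg => ?_
      have : (⟨g, hg⟩ : zpowers (a * a)).1 ∈ ptFix ρ (zpowers x) := by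
        refine zpowers_le.2 (fun y hy => ?_) hg
        obtain ⟨j, rfl⟩ := mem_zpowers_iff.1 hy
        rw [map_zpow]
        congr 1
        rcases hx with hx | hx <;> rw [show x = _ from hx]
        · rw [← hmul, hau, hau]
        · rw [← hmul, haw, map_mul, hau, haw, ← mul_assoc, h2, one_mul]
      exact this x (mem_zpowers x))
    exact mem_fixOf.1 (hfix v.2) _ (mem_zpowers _)
  have hbW : z * a * z⁻¹ ∈ setFix ρ W0 := mul_mem (mul_mem hzW haW) (inv_mem hzW)
  have hbb : π' ⟨z * a * z⁻¹, hbW⟩ * π' ⟨z * a * z⁻¹, hbW⟩ = 1 := by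
    have e : (⟨z * a * z⁻¹, hbW⟩ : setFix ρ W0) = ⟨z, hzW⟩ * ⟨a, haW⟩ * ⟨z, hzW⟩⁻¹ := rfl
    calc _ = π' ⟨z, hzW⟩ * (π' ⟨a, haW⟩ * π' ⟨a, haW⟩) * (π' ⟨z, hzW⟩)⁻¹ := by
          rw [e, map_mul, map_mul, map_inv]; group
      _ = 1 := by rw [haa]; group
  have hd : ∀ (g : setFix ρ W0) (x : W0), ((delt ρ' (π' g) x : W0) : V) = delt ρ (g : G) x := by
    intro g x
    simp [delt, hc]
  refine hno ⟨π' ⟨a, haW⟩, π' ⟨z * a * z⁻¹, hbW⟩, ⊥, ⟨w, hwW⟩, ⟨u, huW⟩, haa, hbb,
    fun n hn => ?_, fun e => hw1 (congrArg Subtype.val (mem_bot.1 e)),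
    fun e => hu1 (congrArg Subtype.val (mem_bot.1 e)), fun e => huw ?_, ?_, ?_, ?_, ?_⟩
  · rw [mem_bot] at hn
    subst hn
    simp
  · have h' : w * u = 1 := congrArg Subtype.val (mem_bot.1 e)
    rw [eq_inv_of_mul_eq_one_right h', inv_eq_of_mul_eq_one_right (h2 w)]
  · rw [mem_bot, div_eq_one]
    refine Subtype.ext ?_
    rw [hd]
    show ρ a w / w = u
    rw [haw, mul_div_cancel_right]
  · rw [mem_bot]
    refine Subtype.ext ?_
    rw [hd]
    show ρ a u / u = 1
    rw [hau, div_self']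
  · rw [mem_bot, div_eq_one]
    refine Subtype.ext ?_
    rw [hd]
    show ρ (z * a * z⁻¹) u / u = w
    have e1 : ρ z⁻¹ u = u * w := by rw [← hzz, ← hmul, ← hw, hzw]
    have e2 : ρ a (u * w) = w := by rw [map_mul, hau, haw, ← mul_assoc, h2, one_mul]
    rw [← hmul, ← hmul, e1, e2, hzw, mul_div_cancel_left]
  · rw [mem_bot]
    refine Subtype.ext ?_
    rw [hd]
    show ρ (z * a * z⁻¹) w / w = 1
    rw [← hmul, ← hmul, hw, apply_inv_apply, hau, div_self']

section TwoFactor

variable {Y : Type u} [Group Y] [Finite Y]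

/-- The factorization `g = c n` with `c` centralizing `Z(T)` and `n` normalizing `J(T)`. -/
def Factored (T : Subgroup Y) (g : Y) : Prop :=
  ∃ c ∈ centralizer ((T ⊓ centralizer (T : Set Y) : Subgroup Y) : Set Y),
    ∃ n ∈ normalizer ((Cfsg.thompsonSubgroupOf 2 T : Subgroup Y) : Set Y), g = c * n

theorem two_factor_aux (n : ℕ) : ∀ (Y : Type u) [Group Y] [Finite Y], Nat.card Y = n →
    ¬ Cfsg.Involves (Equiv.Perm (Fin 4)) Y →
    centralizer (Cfsg.pCore 2 Y : Set Y) ≤ Cfsg.pCore 2 Y → ∀ (T : Sylow 2 Y) (g : Y),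
      Factored (T : Subgroup Y) g := by
  induction n using Nat.strong_induction_on with
  | _ n ih =>
  intro Y _ _ hn hfree hcon T
  haveI : Fact (Nat.Prime 2) := ⟨Nat.prime_two⟩
  set Z := (T : Subgroup Y) ⊓ centralizer ((T : Subgroup Y) : Set Y) with hZdef
  set Q := Cfsg.pCore 2 Y with hQdef
  haveI hQn : Q.Normal := CfsgLib.Coprime.pCore_normal' 2
  have hQp : IsPGroup 2 Q := CfsgLib.Coprime.pCore_isPGroup 2
  have hQT : Q ≤ (T : Subgroup Y) := hQp.le_sylow_of_normal T
  -- proper subgroups containing `T`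
  have recur : ∀ H : Subgroup Y, H ≠ ⊤ → (T : Subgroup Y) ≤ H → ∀ h ∈ H,
      Factored (T : Subgroup Y) h := by
    intro H hH hTH h hh
    obtain ⟨TH, hTH', hJH⟩ := CfsgLib.CFun.exists_sylow_of_le T le_rfl hTH
      (fun hd => T.not_dvd_index (hd.trans (relIndex_dvd_index_of_le hTH)))
    obtain ⟨c, hc, m, hm, hcm⟩ := ih (Nat.card H)
      (hn ▸ (CfsgLib.Fusion.card_lt_card_of_lt (lt_top_iff_ne_top.2 hH)).trans_eq Subgroup.card_top)
      H rfl
      (fun hi' => hfree (CfsgLib.Fusion.involves_of_injective H.subtype H.subtype_injective hi'))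
      (CfsgLib.CFun.constrained_of_le hcon (hQT.trans hTH)) TH ⟨h, hh⟩
    have hmemTH : ∀ t : H, t ∈ (TH : Subgroup H) ↔ (t : Y) ∈ (T : Subgroup Y) := fun t =>
      ⟨fun ht => hTH'.le ⟨t, ht, rfl⟩, fun ht => by
        obtain ⟨y, hy, hyt⟩ := hTH'.ge ht
        rwa [← Subtype.ext hyt]⟩
    refine ⟨c, mem_centralizer_iff.2 fun z hz => ?_, m, ?_, congrArg Subtype.val hcm⟩
    · exact congrArg Subtype.val (mem_centralizer_iff.1 hc ⟨z, hTH hz.1⟩
        ⟨(hmemTH _).2 hz.1, mem_centralizer_iff.2 fun t ht => Subtype.ext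
          (mem_centralizer_iff.1 hz.2 _ ((hmemTH t).1 ht))⟩)
    · rw [← hJH]
      exact le_normalizer_map H.subtype (mem_map_of_mem _ hm)
  intro g
  by_cases hex : ∃ z ∈ (T : Subgroup Y), (∀ t ∈ (T : Subgroup Y), Commute t z) ∧ z ∉ center Y
  swap
  · push Not at hex
    refine ⟨g, mem_centralizer_iff.2 fun z hz => ?_, 1, one_mem _, (mul_one g).symm⟩
    exact (Subgroup.mem_center_iff.1
      (hex z hz.1 fun t ht => mem_centralizer_iff.1 hz.2 t ht) g).symm
  obtain ⟨x, hxT, hxc, hxZ, hx2⟩ := CfsgLib.CFun.exists_central_sq T hex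
  have hxQ : x ∈ Q := hcon (mem_centralizer_iff.2 fun w hw => (hxc w (hQT hw)).eq)
  set Cx := centralizer ({x} : Set Y) with hCx
  have hTCx : (T : Subgroup Y) ≤ Cx := fun t ht => mem_centralizer_singleton_iff.2 (hxc t ht)
  have hCxtop : Cx ≠ ⊤ := fun e => hxZ (Subgroup.mem_center_iff.2 fun g =>
    mem_centralizer_singleton_iff.1 (e.ge (mem_top g)))
  -- the conjugates of `x`
  set E := normalClosure ({x} : Set Y) with hE
  haveI hEn : E.Normal := normalClosure_normal
  have hxE : x ∈ E := subset_normalClosure rfl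
  have hEQ : E ≤ Q := normalClosure_le_normal (Set.singleton_subset_iff.2 hxQ)
  have hEcen : E ≤ centralizer (Q : Set Y) := normalClosure_le_normal
    (Set.singleton_subset_iff.2 (mem_centralizer_iff.2 fun w hw => (hxc w (hQT hw)).eq))
  have hEc : ∀ a ∈ E, ∀ b ∈ E, Commute a b := fun a ha b hb =>
    (mem_centralizer_iff.1 (hEcen hb) a (hEQ ha))
  letI : CommGroup E := { mul_comm := fun a b => Subtype.ext (hEc _ a.2 _ b.2) }
  have hxx : x * x ∈ center Y := Subgroup.mem_center_iff.2 fun g => hx2 g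
  -- every element is an involution times a power of `x`
  let E1 : Subgroup Y :=
    { carrier := {e | e ∈ E ∧ e * e = 1}
      one_mem' := ⟨one_mem E, one_mul 1⟩
      mul_mem' := fun {a b} ha hb => ⟨mul_mem ha.1 hb.1, by
        rw [(hEc a ha.1 b hb.1).symm.mul_mul_mul_comm, ha.2, hb.2, one_mul]⟩
      inv_mem' := fun {a} ha => ⟨inv_mem ha.1, by rw [← mul_inv_rev, ha.2, inv_one]⟩ }
  have hE1E : E1 ≤ E := fun e he => he.1
  have hEgen : E ≤ E1 ⊔ zpowers x := by
    refine le_trans (le_of_eq hE) ?_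
    rw [normalClosure, closure_le]
    intro y hy
    obtain ⟨x', hx', hxy⟩ := Group.mem_conjugatesOfSet_iff.1 hy
    rw [Set.mem_singleton_iff] at hx'
    rw [hx'] at hxy
    obtain ⟨k, rfl⟩ := isConj_iff.1 hxy
    have h1 : x⁻¹ * (k * x * k⁻¹) ∈ E1 := by
      refine ⟨mul_mem (inv_mem hxE) (hEn.conj_mem x hxE k), ?_⟩
      rw [(hEc _ (hEn.conj_mem x hxE k) _ (inv_mem hxE)).mul_mul_mul_comm]
      calc x⁻¹ * x⁻¹ * (k * x * k⁻¹ * (k * x * k⁻¹)) = (x * x)⁻¹ * (k * (x * x) * k⁻¹) := by group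
        _ = 1 := by rw [(hx2 k).eq, mul_inv_cancel_right, inv_mul_cancel]
    have h2 : x * (x⁻¹ * (k * x * k⁻¹)) ∈ E1 ⊔ zpowers x :=
      mul_mem (mem_sup_right (mem_zpowers x)) (mem_sup_left h1)
    simpa using h2
  let K : Subgroup Y :=
    { carrier := {e | e ∈ E ∧ e * e ∈ center Y}
      one_mem' := ⟨one_mem E, by rw [one_mul]; exact one_mem _⟩
      mul_mem' := fun {a b} ha hb => ⟨mul_mem ha.1 hb.1, by
        rw [(hEc a ha.1 b hb.1).symm.mul_mul_mul_comm]; exact mul_mem ha.2 hb.2⟩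
      inv_mem' := fun {a} ha => ⟨inv_mem ha.1, by rw [← mul_inv_rev]; exact inv_mem ha.2⟩ }
  have hEK : E ≤ K := hEgen.trans (sup_le (fun e he => ⟨he.1, by rw [he.2]; exact one_mem _⟩)
    (zpowers_le.2 ⟨hxE, hxx⟩))
  -- the action on `E` modulo the centre
  set Z0 := (center Y).subgroupOf E with hZ0
  have hZ0inv : ∀ g : Y, ∀ e ∈ Z0, MulAut.conjNormal g e ∈ Z0 := fun g e he => by
    show g * (e : Y) * g⁻¹ ∈ center Y
    exact (inferInstance : (center Y).Normal).conj_mem _ he g
  obtain ⟨V, _, _, q, G, _, _, π, ρ, hq, hqker, hπ, hρ, hact⟩ :=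
    exists_section (ρ := (MulAut.conjNormal : Y →* MulAut E)) (P := ⊤) (N := Z0)
      (fun _ _ _ => mem_top _) hZ0inv
  set σ : E →* V := q.comp (Subgroup.topEquiv.symm : E ≃* (⊤ : Subgroup E)).toMonoidHom with hσdef
  have hσ : Function.Surjective σ := hq.comp (MulEquiv.surjective _)
  have hσker : ∀ e : E, σ e = 1 ↔ (e : Y) ∈ center Y := fun e => hqker _
  have hcompat : ∀ (g : Y) (e : E), ρ (π g) (σ e) = σ ⟨g * e * g⁻¹, hEn.conj_mem e e.2 g⟩ :=
    fun g e => hact g _
  have hV2 : ∀ v : V, v * v = 1 := fun v => by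
    obtain ⟨e, rfl⟩ := hσ v
    rw [← map_mul, hσker]
    exact (hEK e.2).2
  have hG : HG G := hg_of_not_involves hfree π hπ σ hσ hρ hEn hcompat hEc hV2
  have hσx : ∀ t ∈ (T : Subgroup Y), ρ (π t) (σ ⟨x, hxE⟩) = σ ⟨x, hxE⟩ := fun t ht => by
    rw [hcompat]
    exact congrArg σ (Subtype.ext (by
      show t * x * t⁻¹ = x
      rw [(hxc t ht).eq, mul_inv_cancel_right]))
  have hgen : transl ρ ⊤ (fixOf ρ ((T.mapSurjective hπ : Sylow 2 G) : Subgroup G)) = ⊤ := by
    let K' : Subgroup Y :=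
      ((transl ρ ⊤ (fixOf ρ ((T.mapSurjective hπ : Sylow 2 G) : Subgroup G))).comap σ).map E.subtype
    have hEK' : E ≤ K' := by
      conv_lhs => rw [hE, normalClosure]
      rw [closure_le]
      intro y hy
      obtain ⟨x', hx', hxy⟩ := Group.mem_conjugatesOfSet_iff.1 hy
      rw [Set.mem_singleton_iff] at hx'
      rw [hx'] at hxy
      obtain ⟨k, rfl⟩ := isConj_iff.1 hxy
      refine ⟨⟨k * x * k⁻¹, hEn.conj_mem x hxE k⟩, ?_, rfl⟩
      show σ _ ∈ transl ρ ⊤ _
      rw [← hcompat k ⟨x, hxE⟩]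
      refine mem_transl (mem_top _) (mem_fixOf.2 ?_)
      rintro _ ⟨t, ht, rfl⟩
      exact hσx t ht
    refine (Subgroup.eq_top_iff' _).2 fun v => ?_
    obtain ⟨e, rfl⟩ := hσ v
    obtain ⟨e', he', hee⟩ := hEK' e.2
    rwa [← Subtype.ext hee]
  set D := π.ker with hD
  haveI hDn : D.Normal := inferInstance
  set CE := centralizer (E : Set Y) with hCE
  haveI hCEn : CE.Normal := inferInstance
  have hCEx : CE ≤ Cx := fun c hc =>
    mem_centralizer_singleton_iff.2 ((mem_centralizer_iff.1 hc x hxE).symm)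
  -- combining with the recursion in the centralizer of `x`
  have combine : ∀ c₀ ∈ CE, ∀ g₁, Factored (T : Subgroup Y) g₁ →
      Factored (T : Subgroup Y) (g₁ * c₀) := by
    rintro c₀ hc₀ _ ⟨c, hc, m, hm, rfl⟩
    obtain ⟨c₁, hc₁, m₁, hm₁, he⟩ :=
      recur Cx hCxtop hTCx _ (hCEx (hCEn.conj_mem c₀ hc₀ m))
    refine ⟨c * c₁, mul_mem hc hc₁, m₁ * m, mul_mem hm₁ hm, ?_⟩
    calc c * m * c₀ = c * (m * c₀ * m⁻¹) * m := by group
      _ = c * c₁ * (m₁ * m) := by rw [he]; group
  by_cases hTD : (T : Subgroup Y) ⊓ D ≤ Q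
  · -- the large elementary subgroups centralize `E`
    have hA : ∀ A ∈ maxEA 2 (T : Subgroup Y), A ≤ CE := by
      intro A hA
      have hAT : A ≤ (T : Subgroup Y) := hA.1
      have hA2 : ∀ a ∈ A, a * a = 1 := fun a ha => by rw [← pow_two]; exact hA.2.1.2 a ha
      have hAQ : ∀ a ∈ A ⊓ D, a ∈ Q := fun a ha => hTD ⟨hAT ha.1, ha.2⟩
      have hoff : IsOff ρ (A.map π) := by
        have hrep := ((CfsgLib.CFun.abFam_maxEA (T : Subgroup Y)).rep A hA (A ⊓ D) inf_le_left E1
          (hE1E.trans (hEQ.trans hQT)) (fun e he => he.2) fun a ha e he =>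
            (mem_centralizer_iff.1 (hEcen he.1) a (hAQ a ha))).1
        have h1 := (card_mul_card_le (A ⊓ D) E1).trans (Nat.mul_le_mul_right _ hrep)
        have h2 : Nat.card (A ⊓ D : Subgroup Y) * D.relIndex A = Nat.card A := by
          rw [← Subgroup.inf_relIndex_left A, card_mul_relIndex' inf_le_left]
        have h3 : Nat.card (A ⊓ D ⊓ E1 : Subgroup Y) ≤ Nat.card (A ⊓ E1 : Subgroup Y) :=
          card_le_of_le (inf_le_inf_right _ inf_le_left)
        have hbound : Nat.card E1 ≤ D.relIndex A * Nat.card (A ⊓ E1 : Subgroup Y) := by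
          refine Nat.le_of_mul_le_mul_left ?_ (Nat.card_pos (α := (A ⊓ D : Subgroup Y)))
          calc Nat.card (A ⊓ D : Subgroup Y) * Nat.card E1 ≤
                Nat.card A * Nat.card (A ⊓ D ⊓ E1 : Subgroup Y) := h1
            _ ≤ Nat.card A * Nat.card (A ⊓ E1 : Subgroup Y) := Nat.mul_le_mul_left _ h3
            _ = _ := by rw [← h2, mul_assoc]
        have hidx : (A ⊓ E1).relIndex E1 ≤ D.relIndex A := by
          refine Nat.le_of_mul_le_mul_left ?_ (Nat.card_pos (α := (A ⊓ E1 : Subgroup Y)))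
          rw [card_mul_relIndex' inf_le_right, mul_comm]
          exact hbound
        set C := fixOf ρ (A.map π) with hC
        have hxC : σ ⟨x, hxE⟩ ∈ C := by
          refine mem_fixOf.2 ?_
          rintro _ ⟨a, ha, rfl⟩
          exact hσx a (hAT ha)
        set U := (E1.subgroupOf E).map σ with hU
        have hCU : U ⊔ C = ⊤ := by
          have h : E ≤ ((U ⊔ C).comap σ).map E.subtype := hEgen.trans (sup_le
            (fun e he => ⟨⟨e, he.1⟩, mem_sup_left (mem_map_of_mem σ he), rfl⟩)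
            (zpowers_le.2 ⟨⟨x, hxE⟩, mem_sup_right hxC, rfl⟩))
          refine (Subgroup.eq_top_iff' _).2 fun v => ?_
          obtain ⟨e, rfl⟩ := hσ v
          obtain ⟨e', he', hee⟩ := h e.2
          rwa [← Subtype.ext hee]
        have h4 : C.index ≤ (A ⊓ E1).relIndex E1 := by
          rw [← relIndex_top_right C, ← hCU, relIndex_sup_right, hU, ← relIndex_comap]
          have h5 : (A ⊓ E1).subgroupOf E ≤ C.comap σ := by
            intro e he
            refine mem_fixOf.2 ?_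
            rintro _ ⟨a, ha, rfl⟩
            rw [hcompat]
            refine congrArg σ (Subtype.ext ?_)
            show a * (e : Y) * a⁻¹ = e
            have hc := hA.2.1.1.is_comm.comm (⟨a, ha⟩ : A) ⟨e, he.1⟩
            rw [show a * (e : Y) = (e : Y) * a from congrArg Subtype.val hc, mul_inv_cancel_right]
          refine (Nat.le_of_dvd (Nat.pos_of_ne_zero index_ne_zero_of_finite)
            (relIndex_dvd_of_le_left _ h5)).trans ?_
          show ((A ⊓ E1).comap E.subtype).relIndex (E1.subgroupOf E) ≤ _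
          rw [relIndex_comap, subgroupOf_map_subtype, inf_eq_left.2 hE1E]
        unfold IsOff
        rw [← Subgroup.card_mul_index C, mul_comm, ← relIndex_ker]
        exact Nat.mul_le_mul (h4.trans hidx) le_rfl
      have hbot := offender_eq_bot hρ hG hV2 (T.mapSurjective hπ) hgen (B := A.map π)
        (map_mono hAT) (by rintro _ ⟨a, ha, rfl⟩; rw [← map_mul, hA2 a ha, map_one]) hoff
      intro a ha
      have haQ := hAQ a ⟨ha, (Subgroup.map_eq_bot_iff _).1 hbot ha⟩
      exact mem_centralizer_iff.2 fun e he => (mem_centralizer_iff.1 (hEcen he) a haQ).symm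
    set S1 := (T : Subgroup Y) ⊓ CE with hS1
    have hS1J : ∀ m ∈ normalizer (S1 : Set Y),
        m ∈ normalizer ((Cfsg.thompsonSubgroupOf 2 (T : Subgroup Y) : Subgroup Y) : Set Y) := by
      intro m hm
      refine conjBy_eq_iff.1 (CfsgLib.Fusion.conjBy_eq_of_le ?_)
      rw [CfsgLib.Fusion.thompsonSubgroupOf_eq, conjBy, map_le_iff_le_comap]
      refine sSup_le fun A hA' => map_le_iff_le_comap.1 ?_
      have hle : conjBy m A ≤ S1 :=
        (conjBy_mono (le_inf hA'.1 (hA A hA'))).trans (conjBy_eq_iff.2 hm).le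
      exact le_sSup ((CfsgLib.CFun.abFam_maxEA (T : Subgroup Y)).conj A hA' m (hle.trans inf_le_left))
    obtain ⟨c, hc, hcg⟩ := frattini_rel (S := S1) (L := ⊤) (T.2.to_le inf_le_left) inf_le_right
      (CfsgLib.Fusion.not_dvd_relIndex_inf_of_normal T CE)
      (fun g _ y hy => hCEn.conj_mem y hy g) (mem_top g)
    obtain ⟨c₁, hc₁, m₁, hm₁, he⟩ := recur Cx hCxtop hTCx _ (hCEx (inv_mem hc))
    refine ⟨c₁, hc₁, m₁ * (c * g), mul_mem hm₁ (hS1J _ hcg), ?_⟩
    calc g = c⁻¹ * (c * g) := by group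
      _ = c₁ * (m₁ * (c * g)) := by rw [he]; group
  · -- the stabilizer of the section has a Sylow subgroup outside `Q`
    set S0 := (T : Subgroup Y) ⊓ D with hS0
    set H := normalizer (S0 : Set Y) with hH
    have hHtop : H ≠ ⊤ := fun e => hTD (CfsgLib.PGroup.le_pCore
      (Subgroup.normalizer_eq_top_iff.1 e) (T.2.to_le inf_le_left))
    have hTH : (T : Subgroup Y) ≤ H := fun t ht => by
      refine conjBy_eq_iff.1 (CfsgLib.Fusion.conjBy_eq_of_le (le_inf ?_ ?_))
      · exact conjBy_le_iff.2 fun y hy => mul_mem (mul_mem ht hy.1) (inv_mem ht)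
      · exact conjBy_le_iff.2 fun y hy => hDn.conj_mem y hy.2 t
    -- `D` is the product of the centralizer of `E` and `S₀`
    have hDsup : D ≤ CE ⊔ S0 := by
      set p := QuotientGroup.mk' CE with hp
      have hD2 : IsPGroup 2 (D.map p) := by
        rintro ⟨_, y, hy, rfl⟩
        obtain ⟨e, m, hm, hem⟩ := Nat.exists_eq_two_pow_mul_odd (orderOf_pos y).ne'
        refine ⟨e, Subtype.ext ?_⟩
        show p y ^ 2 ^ e = 1
        rw [← map_pow, hp, QuotientGroup.mk'_apply, QuotientGroup.eq_one_iff]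
        set d := y ^ 2 ^ e with hd
        have hdm : d ^ m = 1 := by rw [hd, ← pow_mul, ← hem, pow_orderOf_eq_one]
        have hdD : π d = 1 := by rw [hd, map_pow, MonoidHom.mem_ker.1 hy, one_pow]
        refine mem_centralizer_iff.2 fun b hb => ?_
        set f := d * b * d⁻¹ * b⁻¹ with hf
        have hfE : f ∈ E := mul_mem (hEn.conj_mem b hb d) (inv_mem hb)
        have hfZ : f ∈ center Y := by
          have h := hcompat d ⟨b, hb⟩
          rw [hdD, map_one, MulAut.one_apply] at h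
          have h' := (hσker (⟨d * b * d⁻¹, hEn.conj_mem b hb d⟩ * (⟨b, hb⟩ : E)⁻¹)).1
            (by rw [map_mul, map_inv, ← h, mul_inv_cancel])
          exact h'
        have hfc : ∀ z, Commute z f := Subgroup.mem_center_iff.1 hfZ
        have hi : ∀ i : ℕ, d ^ i * b * (d ^ i)⁻¹ = f ^ i * b := by
          intro i
          induction i with
          | zero => simp
          | succ i ihi =>
            calc d ^ (i + 1) * b * (d ^ (i + 1))⁻¹ = d * (d ^ i * b * (d ^ i)⁻¹) * d⁻¹ := by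
                  rw [pow_succ']; group
              _ = d * f ^ i * b * d⁻¹ := by rw [ihi]; group
              _ = f ^ i * (d * b * d⁻¹) := by rw [((hfc d).pow_right i).eq]; group
              _ = f ^ (i + 1) * b := by rw [pow_succ, hf]; group
        have h1 := hi m
        rw [hdm, one_mul, inv_one, mul_one, right_eq_mul] at h1
        obtain ⟨k, hk⟩ := hQp ⟨f, hEQ hfE⟩
        have hf1 : f = 1 := orderOf_eq_one_iff.1 (Nat.eq_one_of_dvd_coprimes
          (Nat.Coprime.pow_right k (Nat.coprime_two_right.2 hm)) (orderOf_dvd_of_pow_eq_one h1)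
          (orderOf_dvd_of_pow_eq_one (congrArg Subtype.val hk)))
        exact (mul_inv_eq_iff_eq_mul.1 (mul_inv_eq_one.1 hf1)).symm
      have hS0i : ¬ 2 ∣ (S0.map p).relIndex (D.map p) := fun hd =>
        CfsgLib.Fusion.not_dvd_relIndex_inf_of_normal T D (hd.trans (by
          rw [← relIndex_comap]
          exact relIndex_dvd_of_le_left D (le_comap_map p S0)))
      intro y hy
      have h := CfsgLib.Fusion.eq_of_le_of_isPGroup_of_not_dvd_relIndex hD2
        (map_mono (inf_le_right : S0 ≤ D)) le_rfl hS0i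
      have : y ∈ (S0.map p).comap p := h.le (mem_map_of_mem p hy)
      rwa [comap_map_eq, hp, QuotientGroup.ker_mk', sup_comm] at this
    obtain ⟨d, hd, hdg⟩ := frattini_rel (S := S0) (L := ⊤) (T.2.to_le inf_le_left) inf_le_right
      (CfsgLib.Fusion.not_dvd_relIndex_inf_of_normal T D)
      (fun g _ y hy => hDn.conj_mem y hy g) (mem_top g)
    obtain ⟨c₀, hc₀, s, hs, hcs⟩ := Subgroup.mem_sup_of_normal_left.1 (hDsup (inv_mem hd))
    set h := s * (d * g) with hh
    have hhH : h ∈ H := mul_mem (le_normalizer hs) hdg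
    have hg : g = h * (h⁻¹ * c₀ * h) := by
      calc g = d⁻¹ * (d * g) := by group
        _ = c₀ * h := by rw [← hcs, hh]; group
        _ = _ := by group
    rw [hg]
    exact combine _ (by simpa using hCEn.conj_mem c₀ hc₀ h⁻¹) _ (recur H hHtop hTH h hhH)

/-- The two-factorization for groups without a section `S₄`. -/
theorem two_factor (hfree : ¬ Cfsg.Involves (Equiv.Perm (Fin 4)) Y)
    (hcon : centralizer (Cfsg.pCore 2 Y : Set Y) ≤ Cfsg.pCore 2 Y) (T : Sylow 2 Y) (g : Y) :
    ∃ c ∈ centralizer (((T : Subgroup Y) ⊓ centralizer ((T : Subgroup Y) : Set Y) :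
      Subgroup Y) : Set Y),
      ∃ n ∈ normalizer ((Cfsg.thompsonSubgroupOf 2 (T : Subgroup Y) : Subgroup Y) : Set Y),
        g = c * n :=
  two_factor_aux _ Y rfl hfree hcon T g

end TwoFactor

end CfsgLib.FourFree
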