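import Cfsg.Agent.Lib.FourFree.Basics
import Mathlib.Algebra.Group.Hom.Instances

/-!
# Pairings into a trivial module, and operators in the span of the acting group
-/

set_option autoImplicit false
set_option linter.style.haveILetI false

open Subgroup
open CfsgLib.CFun (delt delt_mul delt_mul_left delt_one_right)

namespace CfsgLib.FourFree

universe u v

/-- A pairing into a group of order two embeds the left side into the dual of the right side. -/
theorem card_range_le {S X C : Type*} [Group S] [Group X] [Finite X] [CommGroup C]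
    (hC : Nat.card C = 2) (f : S →* X →* C) : Nat.card f.range ≤ f.flip.ker.index := by
  haveI : Finite C := Nat.finite_of_card_ne_zero (by omega)
  haveI : Finite (X →* C) := Finite.of_injective _ DFunLike.coe_injective
  let Φ : Subgroup X → Subgroup (X →* C) := fun Y =>
    { carrier := {φ | φ ∈ f.range ∧ ∀ y ∈ Y, φ y = 1}
      one_mem' := ⟨one_mem _, fun _ _ => rfl⟩
      mul_mem' := fun hφ hψ => ⟨mul_mem hφ.1 hψ.1, fun y hy => by
        rw [MonoidHom.mul_apply, hφ.2 y hy, hψ.2 y hy, one_mul]⟩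
      inv_mem' := fun hφ => ⟨inv_mem hφ.1, fun y hy => by
        rw [MonoidHom.inv_apply, hφ.2 y hy, inv_one]⟩ }
  have main : ∀ (n : ℕ) (Y : Subgroup X), Y.index = n → Nat.card (Φ Y) ≤ n := by
    intro n
    induction n using Nat.strong_induction_on with
    | _ n ih =>
    intro Y hn
    rcases eq_or_ne Y ⊤ with hY | hY
    · subst hn
      have : Φ Y = ⊥ := (Subgroup.eq_bot_iff_forall _).2 fun φ hφ =>
        MonoidHom.ext fun y => hφ.2 y (hY ▸ mem_top y)
      rw [this, Subgroup.card_bot]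
      exact Nat.one_le_iff_ne_zero.2 index_ne_zero_of_finite
    obtain ⟨x, hx⟩ : ∃ x, x ∉ Y := by
      by_contra h
      push Not at h
      exact hY ((Subgroup.eq_top_iff' Y).2 h)
    set Y' := Y ⊔ zpowers x with hY'
    have hmul : Y.relIndex Y' * Y'.index = Y.index := relIndex_mul_index le_sup_left
    have hrel : 2 ≤ Y.relIndex Y' := by
      have h0 : Y.relIndex Y' ≠ 0 := index_ne_zero_of_finite
      have h1 : Y.relIndex Y' ≠ 1 := fun e =>
        hx (relIndex_eq_one.1 e (mem_sup_right (mem_zpowers x)))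
      omega
    have hlt : Y'.index < n := by
      subst hn
      have h0 : 0 < Y'.index := Nat.pos_of_ne_zero index_ne_zero_of_finite
      rw [← hmul]; nlinarith
    let ev : (X →* C) →* C :=
      { toFun := fun φ => φ x
        map_one' := rfl
        map_mul' := fun _ _ => rfl }
    have hle : Φ Y ⊓ ev.ker ≤ Φ Y' := by
      rintro φ ⟨⟨hφr, hφ⟩, hφx⟩
      refine ⟨hφr, fun y hy => ?_⟩
      have : Y' ≤ φ.ker := sup_le hφ (zpowers_le.2 hφx)
      exact this hy
    have h2 : ev.ker.relIndex (Φ Y) ≤ 2 := by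
      rw [relIndex_ker, ← hC]
      exact Nat.le_of_dvd (by rw [hC]; norm_num) (Subgroup.card_subgroup_dvd_card _)
    calc Nat.card (Φ Y) = Nat.card (Φ Y ⊓ ev.ker : Subgroup _) * ev.ker.relIndex (Φ Y) := by
          rw [← Subgroup.inf_relIndex_left (Φ Y), CfsgLib.CFun.card_mul_relIndex' inf_le_left]
      _ ≤ Y'.index * Y.relIndex Y' := Nat.mul_le_mul
          ((card_le_of_le hle).trans (ih _ hlt Y' rfl)) (h2.trans hrel)
      _ = n := by rw [mul_comm, hmul, hn]
  have htop : f.range ≤ Φ f.flip.ker := by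
    rintro φ ⟨s, rfl⟩
    refine ⟨⟨s, rfl⟩, fun y hy => ?_⟩
    exact congrArg (fun ψ : S →* C => ψ s) (MonoidHom.mem_ker.1 hy)
  exact (card_le_of_le htop).trans (main _ _ rfl)

/-- The two sides of a pairing into a group of order two, modulo the kernels, have the same order. -/
theorem index_ker_eq {S X C : Type*} [Group S] [Finite S] [Group X] [Finite X] [CommGroup C]
    (hC : Nat.card C = 2) (f : S →* X →* C) : f.ker.index = f.flip.ker.index := by
  have h1 := card_range_le hC f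
  have h2 := card_range_le hC f.flip
  rw [← index_ker f] at h1
  rw [← index_ker f.flip, show f.flip.flip = f from rfl] at h2
  exact le_antisymm h1 h2

section Action

variable {G : Type u} {V : Type v} [Group G] [CommGroup V] (ρ : G →* MulAut V)

/-- The sums of elements of the acting group. -/
def span : Subgroup (V →* V) := closure (Set.range fun g : G => (ρ g : V ≃* V).toMonoidHom)

variable {ρ}

theorem span_id : MonoidHom.id V ∈ span ρ :=
  subset_closure ⟨1, MonoidHom.ext fun x => by simp⟩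

theorem span_apply_mem {r : V →* V} (hr : r ∈ span ρ) {D : Subgroup V}
    (hD : ∀ g, ∀ u ∈ D, ρ g u ∈ D) : ∀ u ∈ D, r u ∈ D := by
  induction hr using closure_induction with
  | mem x hx => obtain ⟨g, rfl⟩ := hx; exact fun u hu => hD g u hu
  | one => exact fun u _ => one_mem D
  | mul x y _ _ hx hy => exact fun u hu => mul_mem (hx u hu) (hy u hu)
  | inv x _ hx => exact fun u hu => inv_mem (hx u hu)

theorem span_comp {r : V →* V} (hr : r ∈ span ρ) (g : G) :
    (ρ g : V ≃* V).toMonoidHom.comp r ∈ span ρ := by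
  induction hr using closure_induction with
  | mem x hx =>
    obtain ⟨h, rfl⟩ := hx
    exact subset_closure ⟨g * h, MonoidHom.ext fun x => by simp⟩
  | one => rw [MonoidHom.comp_one]; exact one_mem _
  | mul x y _ _ hx hy => rw [MonoidHom.comp_mul]; exact mul_mem hx hy
  | inv x _ hx =>
    have : (ρ g : V ≃* V).toMonoidHom.comp x⁻¹ = ((ρ g : V ≃* V).toMonoidHom.comp x)⁻¹ :=
      MonoidHom.ext fun u => by simp
    rw [this]; exact inv_mem hx

/-- A pairing with values in a fixed subgroup turns operators of the span into elements of the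
normal subgroup. -/
theorem span_dual {F : Subgroup V} (hF : ∀ g, ∀ x ∈ F, ρ g x = x) {K : Subgroup G} (hKn : K.Normal)
    (hK : ∀ k ∈ K, ∀ u, delt ρ k u ∈ F) {r : V →* V} (hr : r ∈ span ρ) :
    ∀ k ∈ K, ∃ k' ∈ K, ∀ u, delt ρ k' u = delt ρ k (r u) := by
  have hmul : ∀ k ∈ K, ∀ l ∈ K, ∀ u, delt ρ (k * l) u = delt ρ k u * delt ρ l u := by
    intro k _ l hl u
    rw [delt_mul, hF k _ (hK l hl u)]
  induction hr using closure_induction with
  | mem x hx =>
    obtain ⟨g, rfl⟩ := hx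
    refine fun k hk => ⟨g⁻¹ * k * g, by simpa using hKn.conj_mem k hk g⁻¹, fun u => ?_⟩
    have e : delt ρ (g⁻¹ * k * g) u = ρ g⁻¹ (delt ρ k (ρ g u)) := by
      simp only [delt, map_div, map_mul, MulAut.mul_apply, apply_inv_apply]
    rw [e, hF _ _ (hK k hk _)]
    rfl
  | one => exact fun k _ => ⟨1, one_mem K, fun u => by
      rw [CfsgLib.CFun.delt_one, MonoidHom.one_apply, delt_one_right]⟩
  | mul x y _ _ hx hy =>
    intro k hk
    obtain ⟨a, ha, hau⟩ := hx k hk
    obtain ⟨b, hb, hbu⟩ := hy k hk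
    exact ⟨a * b, mul_mem ha hb, fun u => by
      rw [hmul a ha b hb, hau, hbu, MonoidHom.mul_apply, delt_mul_left]⟩
  | inv x _ hx =>
    intro k hk
    obtain ⟨a, ha, hau⟩ := hx k hk
    refine ⟨a⁻¹, inv_mem ha, fun u => ?_⟩
    have h := hmul a ha a⁻¹ (inv_mem ha) u
    rw [mul_inv_cancel, CfsgLib.CFun.delt_one, hau] at h
    rw [MonoidHom.inv_apply, CfsgLib.CFun.delt_inv_right]
    exact eq_inv_of_mul_eq_one_right h.symm

/-- Pairings of an irreducible factor with values in a fixed subgroup: the order is a power. -/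
theorem pairing_power [Finite G] [Finite V] (h2 : ∀ x : V, x * x = 1) {S1 S : Subgroup V}
    (hS : ∀ g, ∀ u ∈ S, ρ g u ∈ S) (h1S : S1 ≤ S)
    (hirr : ∀ D : Subgroup V, (∀ g, ∀ u ∈ D, ρ g u ∈ D) → S1 ≤ D → D ≤ S → D = S1 ∨ D = S)
    (n : ℕ) : ∀ F : Subgroup V, Nat.card F = n → (∀ g, ∀ x ∈ F, ρ g x = x) →
      ∀ X : Subgroup G, X.Normal → (∀ k ∈ X, ∀ u ∈ S1, ρ k u = u) →
      (∀ k ∈ X, ∀ u ∈ S, delt ρ k u ∈ F) →
      ∃ j : ℕ, (ptFix ρ S).relIndex X = (S1.relIndex S) ^ j := by
  induction n using Nat.strong_induction_on with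
  | _ n ih =>
  intro F hn hF X hXn hkill hmap
  rcases eq_or_ne F ⊥ with hF0 | hF0
  · refine ⟨0, ?_⟩
    rw [pow_zero, relIndex_eq_one]
    exact fun k hk u hu => div_eq_one.1 (mem_bot.1 (hF0 ▸ hmap k hk u hu))
  obtain ⟨F1, hF1⟩ := (Set.toFinite {D : Subgroup V | D < F}).exists_maximal
    ⟨⊥, bot_lt_iff_ne_bot.2 hF0⟩
  obtain ⟨hF1lt, hF1max⟩ := hF1
  replace hF1lt : F1 < F := hF1lt
  have hC : Nat.card (F ⧸ F1.subgroupOf F) = 2 := by
    obtain ⟨f, hf, hfn⟩ := SetLike.exists_of_lt hF1lt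
    have hsup : zpowers f ⊔ F1 = F := by
      rcases eq_or_lt_of_le (sup_le (zpowers_le.2 hf) hF1lt.le) with e | e
      · exact e
      · exact absurd (hF1max e le_sup_right (mem_sup_left (mem_zpowers f))) hfn
    show F1.relIndex F = 2
    have hd : F1.relIndex F ∣ 2 := by
      rw [← hsup, relIndex_sup_right]
      refine (relIndex_dvd_card _ _).trans ?_
      rw [Nat.card_zpowers]
      exact orderOf_dvd_of_pow_eq_one (by rw [pow_two, h2])
    rcases (Nat.dvd_prime Nat.prime_two).1 hd with e | e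
    · exact absurd (relIndex_eq_one.1 e) hF1lt.not_ge
    · exact e
  let Y : Subgroup G :=
    { carrier := {k | k ∈ X ∧ ∀ u ∈ S, delt ρ k u ∈ F1}
      one_mem' := ⟨one_mem X, fun u _ => by rw [CfsgLib.CFun.delt_one]; exact one_mem F1⟩
      mul_mem' := fun {k l} hk hl => ⟨mul_mem hk.1 hl.1, fun u hu => by
        rw [delt_mul, hF k _ (hmap l hl.1 u hu)]
        exact mul_mem (hk.2 u hu) (hl.2 u hu)⟩
      inv_mem' := fun {k} hk => ⟨inv_mem hk.1, fun u hu => by
        have h := delt_mul ρ k k⁻¹ u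
        rw [mul_inv_cancel, CfsgLib.CFun.delt_one, hF k _ (hmap _ (inv_mem hk.1) u hu)] at h
        rw [eq_inv_of_mul_eq_one_right h.symm]
        exact inv_mem (hk.2 u hu)⟩ }
  have hYX : Y ≤ X := fun k hk => hk.1
  have hYn : Y.Normal := ⟨fun k hk g => ⟨hXn.conj_mem k hk.1 g, fun u hu => by
    have e : delt ρ (g * k * g⁻¹) u = ρ g (delt ρ k (ρ g⁻¹ u)) := by
      simp only [delt, map_div, map_mul, MulAut.mul_apply, apply_apply_inv]
    have hm := hk.2 _ (hS g⁻¹ u hu)
    rw [e, hF g _ (hF1lt.le hm)]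
    exact hm⟩⟩
  obtain ⟨j, hj⟩ := ih (Nat.card F1)
    (hn ▸ lt_of_le_of_ne (card_le_of_le hF1lt.le)
      fun e => hF1lt.ne (eq_of_le_of_card_ge hF1lt.le e.ge))
    F1 rfl (fun g x hx => hF g x (hF1lt.le hx)) Y hYn (fun k hk => hkill k hk.1) (fun k hk => hk.2)
  have hXle : ptFix ρ S ⊓ X ≤ Y := fun k hk => ⟨hk.2, fun u hu => by
    show ρ k u / u ∈ F1
    rw [hk.1 u hu, div_self']; exact one_mem _⟩
  have hsplit : (ptFix ρ S).relIndex X = (ptFix ρ S).relIndex Y * Y.relIndex X := by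
    rw [← inf_relIndex_right (ptFix ρ S) X, ← relIndex_mul_relIndex _ _ _ hXle hYX]
    congr 1
    rw [← inf_relIndex_right (ptFix ρ S ⊓ X) Y, inf_assoc, inf_eq_right.2 hYX, inf_relIndex_right]
  have hfac : Y.relIndex X = 1 ∨ Y.relIndex X = S1.relIndex S := by
    let A : Subgroup V :=
      { carrier := {u | u ∈ S ∧ ∀ k ∈ X, delt ρ k u ∈ F1}
        one_mem' := ⟨one_mem S, fun k _ => by rw [delt_one_right]; exact one_mem F1⟩
        mul_mem' := fun hu hw => ⟨mul_mem hu.1 hw.1, fun k hk => by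
          rw [delt_mul_left]; exact mul_mem (hu.2 k hk) (hw.2 k hk)⟩
        inv_mem' := fun hu => ⟨inv_mem hu.1, fun k hk => by
          rw [CfsgLib.CFun.delt_inv_right]; exact inv_mem (hu.2 k hk)⟩ }
    have hA : ∀ g, ∀ u ∈ A, ρ g u ∈ A := fun g u hu => ⟨hS g u hu.1, fun k hk => by
      have e : delt ρ k (ρ g u) = ρ g (delt ρ (g⁻¹ * k * g) u) := by
        simp only [delt, map_div, map_mul, MulAut.mul_apply, apply_apply_inv]
      have hm := hu.2 _ (by simpa using hXn.conj_mem k hk g⁻¹)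
      rw [e, hF g _ (hF1lt.le hm)]; exact hm⟩
    rcases hirr A hA (fun u hu => ⟨h1S hu, fun k hk => by
        show ρ k u / u ∈ F1
        rw [hkill k hk u hu, div_self']; exact one_mem _⟩) (fun u hu => hu.1) with e | e
    · right
      let mk := QuotientGroup.mk' (F1.subgroupOf F)
      let f : S →* X →* (F ⧸ F1.subgroupOf F) :=
        { toFun := fun u =>
            { toFun := fun k => mk ⟨delt ρ (k : G) u, hmap k k.2 u u.2⟩
              map_one' := by
                rw [← map_one mk]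
                exact congrArg mk (Subtype.ext (CfsgLib.CFun.delt_one (ρ := ρ) (u : V)))
              map_mul' := fun k l => by
                rw [← map_mul]
                exact congrArg mk (Subtype.ext (by
                  show delt ρ ((k : G) * l) u = delt ρ (k : G) u * delt ρ (l : G) u
                  rw [delt_mul, hF k _ (hmap l l.2 u u.2)])) }
          map_one' := MonoidHom.ext fun k => by
            show mk _ = 1
            rw [← map_one mk]
            exact congrArg mk (Subtype.ext (delt_one_right (ρ := ρ) (k : G)))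
          map_mul' := fun u w => MonoidHom.ext fun k => by
            show mk _ = mk _ * mk _
            rw [← map_mul]
            exact congrArg mk (Subtype.ext (delt_mul_left ρ (k : G) (u : V) (w : V))) }
      have k1 : f.ker = S1.subgroupOf S := by
        ext u
        constructor
        · intro hu
          show (u : V) ∈ S1
          rw [← e]
          exact ⟨u.2, fun k hk => (QuotientGroup.eq_one_iff (N := F1.subgroupOf F)
            ⟨delt ρ k u, hmap k hk u u.2⟩).1
            (congrArg (fun φ : X →* _ => φ ⟨k, hk⟩) (MonoidHom.mem_ker.1 hu))⟩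
        · intro hu
          have hu' : (u : V) ∈ A := e.symm ▸ (show (u : V) ∈ S1 from hu)
          exact MonoidHom.mem_ker.2 (MonoidHom.ext fun k =>
            (QuotientGroup.eq_one_iff _).2 (hu'.2 k k.2))
      have k2 : f.flip.ker = Y.subgroupOf X := by
        ext k
        constructor
        · intro hk
          exact ⟨k.2, fun u hu => (QuotientGroup.eq_one_iff (N := F1.subgroupOf F)
            ⟨delt ρ (k : G) u, hmap k k.2 u hu⟩).1
            (congrArg (fun φ : S →* _ => φ ⟨u, hu⟩) (MonoidHom.mem_ker.1 hk))⟩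
        · intro hk
          exact MonoidHom.mem_ker.2 (MonoidHom.ext fun u =>
            (QuotientGroup.eq_one_iff _).2 (hk.2 u u.2))
      have := index_ker_eq hC f
      rw [k1, k2] at this
      exact this.symm
    · left
      refine relIndex_eq_one.2 fun k hk => ⟨hk, fun u hu => ?_⟩
      exact (e.symm ▸ hu : u ∈ A).2 k hk
  rcases hfac with e | e
  · exact ⟨j, by rw [hsplit, e, hj, mul_one]⟩
  · exact ⟨j + 1, by rw [hsplit, e, hj, pow_succ]⟩

/-- If the operators sending `R` into `R₁` send it into `R₀`, then all irreducible factors between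
`R₀` and `R` have the order of `R / R₁`. -/
theorem factor_card [Finite V] {R0 R1 R S1 S2 : Subgroup V}
    (hR : ∀ g, ∀ u ∈ R, ρ g u ∈ R) (hR1 : ∀ g, ∀ u ∈ R1, ρ g u ∈ R1)
    (hS1 : ∀ g, ∀ u ∈ S1, ρ g u ∈ S1) (hS2 : ∀ g, ∀ u ∈ S2, ρ g u ∈ S2)
    (h1 : R1 ≤ R) (h01 : R0 ≤ S1) (h12 : S1 ≤ S2) (h2R : S2 ≤ R) (hne : S1 ≠ S2)
    (hirrR : ∀ D : Subgroup V, (∀ g, ∀ u ∈ D, ρ g u ∈ D) → R1 ≤ D → D ≤ R → D = R1 ∨ D = R)
    (hirrS : ∀ D : Subgroup V, (∀ g, ∀ u ∈ D, ρ g u ∈ D) → S1 ≤ D → D ≤ S2 → D = S1 ∨ D = S2)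
    (hzero : ∀ r ∈ span ρ, (∀ u ∈ R, r u ∈ R1) → ∀ u ∈ R, r u ∈ R0) :
    R1.relIndex R = S1.relIndex S2 := by
  haveI : Finite (V →* V) := Finite.of_injective _ DFunLike.coe_injective
  let Ideal : Subgroup (V →* V) → Prop := fun I =>
    I ≤ span ρ ∧ (∀ g : G, ∀ r ∈ I, (ρ g : V ≃* V).toMonoidHom.comp r ∈ I) ∧
      ∃ r ∈ I, ∃ u ∈ S2, r u ∉ S1
  obtain ⟨I, ⟨hIs, hIg, r, hr, w', hw', hrw'⟩, hImin⟩ :=
    (Set.toFinite {I | Ideal I}).exists_minimal ⟨span ρ, le_rfl, fun g r hr => span_comp hr g,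
      MonoidHom.id V, span_id, by
        by_contra h
        push Not at h
        exact hne (le_antisymm h12 fun u hu => h u hu)⟩
  obtain ⟨w, hw, hrw⟩ : ∃ w ∈ R, r w ∉ R1 := by
    by_contra h
    push Not at h
    exact hrw' (h01 (hzero r (hIs hr) h w' (h2R hw')))
  let ev : V → ((V →* V) →* V) := fun x =>
    { toFun := fun φ => φ x
      map_one' := rfl
      map_mul' := fun _ _ => rfl }
  have hev : ∀ (D : Subgroup V), (∀ g, ∀ u ∈ D, ρ g u ∈ D) → ∀ J : Subgroup (V →* V),
      (∀ g : G, ∀ r ∈ J, (ρ g : V ≃* V).toMonoidHom.comp r ∈ J) → ∀ x,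
      ∀ g, ∀ u ∈ J.map (ev x) ⊔ D, ρ g u ∈ J.map (ev x) ⊔ D := by
    intro D hD J hJ x g u hu
    obtain ⟨a, ⟨φ, hφ, rfl⟩, b, hb, rfl⟩ := mem_sup.1 hu
    rw [map_mul]
    exact mul_mem_sup ⟨_, hJ g φ hφ, rfl⟩ (hD g b hb)
  have hle : ∀ {S : Subgroup V}, (∀ g, ∀ u ∈ S, ρ g u ∈ S) → ∀ J ≤ I, ∀ x ∈ S,
      J.map (ev x) ≤ S := by
    rintro S hS J hJ x hx _ ⟨φ, hφ, rfl⟩
    exact span_apply_mem (hIs (hJ hφ)) hS x hx
  have hIw : I.map (ev w) ⊔ R1 = R := by
    rcases hirrR _ (hev R1 hR1 I hIg w) le_sup_right (sup_le (hle hR I le_rfl w hw) h1) with e | e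
    · exact absurd (e ▸ mem_sup_left ⟨r, hr, rfl⟩) hrw
    · exact e
  have hIw' : I.map (ev w') ⊔ S1 = S2 := by
    rcases hirrS _ (hev S1 hS1 I hIg w') le_sup_right (sup_le (hle hS2 I le_rfl w' hw') h12)
      with e | e
    · exact absurd (e ▸ mem_sup_left ⟨r, hr, rfl⟩) hrw'
    · exact e
  -- the two annihilators agree on `I`
  set J := I ⊓ R1.comap (ev w) with hJ
  have hJg : ∀ g : G, ∀ s ∈ J, (ρ g : V ≃* V).toMonoidHom.comp s ∈ J :=
    fun g s hs => ⟨hIg g s hs.1, hR1 g _ hs.2⟩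
  have hJ1 : ∀ s ∈ J, s w' ∈ S1 := by
    intro s hs
    by_contra h
    have hIJ : I ≤ J := hImin ⟨inf_le_left.trans hIs, hJg, s, hs, w', hw', h⟩ inf_le_left
    exact hrw (hIJ hr).2
  have hker : I ⊓ R1.comap (ev w) = I ⊓ S1.comap (ev w') := by
    refine le_antisymm (fun s hs => ⟨hs.1, hJ1 s hs⟩) fun s hs => ?_
    set J' := I ⊓ S1.comap (ev w') with hJ'
    have hJ'g : ∀ g : G, ∀ s ∈ J', (ρ g : V ≃* V).toMonoidHom.comp s ∈ J' :=
      fun g s hs => ⟨hIg g s hs.1, hS1 g _ hs.2⟩
    refine ⟨hs.1, ?_⟩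
    show s w ∈ R1
    rcases hirrR _ (hev R1 hR1 J' hJ'g w) le_sup_right
      (sup_le (hle hR J' inf_le_left w hw) h1) with e | e
    · exact e.le (mem_sup_left ⟨s, hs, rfl⟩)
    · exfalso
      have hrR : r w ∈ J'.map (ev w) ⊔ R1 := by rw [e]; exact span_apply_mem (hIs hr) hR w hw
      obtain ⟨_, ⟨φ, hφ, rfl⟩, b, hb, hab⟩ := mem_sup.1 hrR
      have hd : r / φ ∈ J := ⟨(show r / φ ∈ I from div_mem hr (show φ ∈ I from hφ.1)), by
        show r w / φ w ∈ R1
        rw [← hab]
        show φ w * b / φ w ∈ R1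
        rwa [mul_div_cancel_left]⟩
      have h3 := mul_mem (hJ1 _ hd) (show φ w' ∈ S1 from hφ.2)
      exact hrw' (by simpa [MonoidHom.div_apply] using h3)
  calc R1.relIndex R = R1.relIndex (I.map (ev w)) := by rw [← hIw, relIndex_sup_right]
    _ = (R1.comap (ev w)).relIndex I := (relIndex_comap _ _ _).symm
    _ = (S1.comap (ev w')).relIndex I := by
        rw [← Subgroup.inf_relIndex_left I, hker, Subgroup.inf_relIndex_left]
    _ = S1.relIndex (I.map (ev w')) := relIndex_comap _ _ _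
    _ = S1.relIndex S2 := by rw [← hIw', relIndex_sup_right]

end Action

end CfsgLib.FourFree
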