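import Cfsg.Agent.Lib.FourFree.Sections
import Cfsg.Agent.Lib.FourFree.Pairing

/-!
# A quadratic offender generating with its outside conjugates cannot exist
-/

set_option autoImplicit false
set_option linter.style.haveILetI false

open Subgroup
open CfsgLib.Fusion (conjBy mem_conjBy conj_mem_conjBy conjBy_le_iff conjBy_eq_iff conjBy_mono
  conjBy_conjBy card_conjBy)
open CfsgLib.CFun (delt fixMod fixOf IsOff mem_fixOf mem_fixMod card_mul_relIndex')

namespace CfsgLib.FourFree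

universe u v

variable {G : Type u} {V : Type v} [Group G] [CommGroup V] {ρ : G →* MulAut V}

theorem ptFix_map (g : G) (D : Subgroup V) :
    ptFix ρ (D.map (ρ g : V ≃* V).toMonoidHom) = conjBy g (ptFix ρ D) := by
  ext k
  rw [mem_conjBy]
  constructor
  · intro hk x hx
    have := hk _ ⟨x, hx, rfl⟩
    simp only [MulEquiv.coe_toMonoidHom] at this
    simp only [map_mul, MulAut.mul_apply]
    rw [this, apply_inv_apply]
  · rintro hk _ ⟨x, hx, rfl⟩
    have := hk x hx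
    simp only [map_mul, MulAut.mul_apply] at this
    show ρ k (ρ g x) = ρ g x
    conv_rhs => rw [← this, apply_apply_inv]

theorem ptFix_normal {D : Subgroup V} (hD : ∀ g, ∀ u ∈ D, ρ g u ∈ D) : (ptFix ρ D).Normal :=
  ⟨fun k hk g => conj_mem_ptFix (⟨hD g, hD g⁻¹⟩ : g ∈ setFix ρ D) hk⟩

variable [Finite G] [Finite V] {T M B : Subgroup G}

set_option maxHeartbeats 1600000 in
/-- The main counting argument: such an offender does not exist. -/
theorem Setup.false_of_offender (hs : Setup ρ T M B) (hρ : Function.Injective ρ) (hoff : IsOff ρ B)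
    (V0 : Subgroup V) (hV0M : M ≤ setFix ρ V0) (hV0B : B ≤ ptFix ρ V0)
    (hV0 : transl ρ ⊤ V0 = ⊤)
    (hH0 : ∀ Y : Subgroup G, Y ≤ T → (∀ y ∈ Y, y * y = 1) →
      Nat.card V0 ≤ (ptFix ρ V0).relIndex Y * Nat.card (V0 ⊓ fixOf ρ Y : Subgroup V) →
      Y ≤ ptFix ρ V0) : False := by
  classical
  haveI : Fact (Nat.Prime 2) := ⟨Nat.prime_two⟩
  set P := Cfsg.pCore 2 G with hP
  haveI hPn : P.Normal := Subgroup.sSup_normal _ fun N hN => hN.1
  have hPT : P ≤ T := hs.pCore_le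
  have hG2 : ¬ IsPGroup 2 G := fun h2 => by
    obtain ⟨S, hS⟩ := hs.sylow
    refine hs.ne_top (top_le_iff.1 (le_trans ?_ hs.le_M))
    rw [← hS]
    exact (S.is_maximal' (h2.to_subgroup ⊤) le_top).le
  -- no offender in `O₂`
  have hyp : ∀ X : Subgroup G, X ≤ P → (∀ x ∈ X, x * x = 1) → X ≠ ⊥ →
      Nat.card X * Nat.card (fixOf ρ X) < Nat.card V := by
    intro X hXP hX2 hXne
    by_contra hge
    rw [not_lt] at hge
    obtain ⟨Y, ⟨hYX, hYne⟩, hYmax⟩ := (Set.toFinite {Y : Subgroup G | Y ≤ X ∧ Y ≠ ⊥}).exists_maximalFor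
      (fun Y : Subgroup G => Nat.card Y * Nat.card (fixOf ρ Y)) _ ⟨X, le_rfl, hXne⟩
    have hmax : ∀ Y' : Subgroup G, Y' ≤ X → Y' ≠ ⊥ →
        Nat.card Y' * Nat.card (fixOf ρ Y') ≤ Nat.card Y * Nat.card (fixOf ρ Y) := fun Y' h1 h2 => by
      by_contra hlt
      exact hlt (hYmax ⟨h1, h2⟩ (le_of_lt (not_le.1 hlt)))
    obtain ⟨g, z, hz, hzg⟩ : ∃ g : G, ∃ z ∈ Y, g⁻¹ * z * g ∉ ptFix ρ V0 := by
      by_contra h
      push Not at h
      refine hYne ((Subgroup.eq_bot_iff_forall _).2 fun z hz => ?_)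
      have := mem_ptFix_transl (H := ⊤) (W := V0) (z := z) fun g _ => h g z hz
      rw [hV0, ptFix_top hρ] at this
      exact mem_bot.1 this
    set Y' := conjBy g⁻¹ Y with hY'
    have hY'P : Y' ≤ P := conjBy_le_iff.2 fun y hy => hPn.conj_mem y (hXP (hYX hy)) g⁻¹
    refine hzg (hH0 Y' (hY'P.trans hPT) (fun y hy => ?_) ?_ ?_)
    · have := hX2 _ (hYX (mem_conjBy.1 hy))
      calc y * y = g⁻¹ * ((g * y * g⁻¹) * (g * y * g⁻¹)) * g := by group
        _ = 1 := by rw [show g * y * g⁻¹ = (g⁻¹)⁻¹ * y * g⁻¹ by group, this]; group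
    · refine best_restrict (fun Z hZ => ?_) V0
      rw [hY', card_conjBy, card_fixOf_conjBy]
      have hZX : conjBy g Z ≤ Y := (conjBy_mono hZ).trans (by
        rw [hY', CfsgLib.Fusion.conjBy_conjBy_inv])
      have e1 : Nat.card Z * Nat.card (fixOf ρ Z) =
          Nat.card (conjBy g Z) * Nat.card (fixOf ρ (conjBy g Z)) := by
        rw [card_conjBy, card_fixOf_conjBy]
      rw [e1]
      rcases eq_or_ne (conjBy g Z) ⊥ with e | e
      · rw [e, Subgroup.card_bot, one_mul]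
        exact (Subgroup.card_le_card_group _).trans (hge.trans (hmax X le_rfl hXne))
      · exact hmax _ (hZX.trans hYX) e
    · exact by simpa [hY'] using conj_mem_conjBy (g := g⁻¹) hz
  -- fixed points
  set C := fixOf ρ B with hC
  have hV0C : V0 ≤ C := le_ptFix_iff.1 hV0B
  have hCh : ∀ h, ∀ u, u ∈ fixOf ρ (conjBy h B) ↔ ρ h⁻¹ u ∈ C := by
    intro h u
    rw [fixOf_conjBy]
    constructor
    · rintro ⟨y, hy, rfl⟩
      simpa [apply_inv_apply] using hy
    · exact fun hu => ⟨_, hu, apply_apply_inv h u⟩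
  have hqC : ∀ b ∈ B, ∀ u, delt ρ b u ∈ C := fun b hb u =>
    mem_fixOf.2 fun a ha => div_eq_one.1 (hs.quad a ha b hb u)
  have hqCh : ∀ h, ∀ d ∈ conjBy h B, ∀ u, delt ρ d u ∈ fixOf ρ (conjBy h B) := by
    intro h d hd u
    rw [hCh]
    have := hqC _ (mem_conjBy.1 hd) (ρ h⁻¹ u)
    convert this using 1
    simp only [delt, map_div, map_mul, MulAut.mul_apply, apply_apply_inv]
  have hgeninv : ∀ h, h ∉ M → ∀ S : Subgroup V, (∀ b ∈ B, ∀ u ∈ S, delt ρ b u ∈ S) →
      (∀ d ∈ conjBy h B, ∀ u ∈ S, delt ρ d u ∈ S) → ∀ g, ∀ u ∈ S, ρ g u ∈ S := by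
    intro h hh S h1 h2 g u hu
    have : (⊤ : Subgroup G) ≤ setFix ρ S := (hs.gen h hh).ge.trans (sup_le
      (le_setFix fun b hb w hw => by rw [CfsgLib.CFun.delt_apply ρ]; exact mul_mem (h1 b hb w hw) hw)
      (le_setFix fun d hd w hw => by rw [CfsgLib.CFun.delt_apply ρ]; exact mul_mem (h2 d hd w hw) hw))
    exact apply_mem_of_setFix (this (mem_top g)) hu
  have hgenfix : ∀ h, h ∉ M → ∀ u, u ∈ C → u ∈ fixOf ρ (conjBy h B) → ∀ g, ρ g u = u := by
    intro h hh u hu1 hu2 g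
    have : (⊤ : Subgroup G) ≤ ptFix ρ (zpowers u) := (hs.gen h hh).ge.trans
      (sup_le (le_ptFix_iff.2 (zpowers_le.2 hu1)) (le_ptFix_iff.2 (zpowers_le.2 hu2)))
    exact this (mem_top g) u (mem_zpowers u)
  obtain ⟨h₀, hh₀⟩ := hs.exists_not_mem
  set Ch := fixOf ρ (conjBy h₀ B) with hChdef
  have hCC : C ⊔ Ch = ⊤ := by
    have hinv := hgeninv h₀ hh₀ (C ⊔ Ch) (fun b hb u _ => mem_sup_left (hqC b hb u))
      (fun d hd u _ => mem_sup_right (hqCh h₀ d hd u))
    refine top_le_iff.1 (hV0 ▸ transl_le fun g _ w hw => hinv g w (mem_sup_left (hV0C hw)))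
  set F := fixOf ρ (⊤ : Subgroup G) with hF
  have hFfix : ∀ g, ∀ x ∈ F, ρ g x = x := fun g x hx => mem_fixOf.1 hx g (mem_top g)
  -- the linear subgroup
  let Klin : Subgroup G :=
    { carrier := {k | ∀ u, delt ρ k u ∈ F}
      one_mem' := fun u => by rw [CfsgLib.CFun.delt_one]; exact one_mem F
      mul_mem' := fun {k l} hk hl u => by
        rw [CfsgLib.CFun.delt_mul, hFfix k _ (hl u)]; exact mul_mem (hk u) (hl u)
      inv_mem' := fun {k} hk u => by
        have e : delt ρ k⁻¹ u = ρ k⁻¹ ((delt ρ k u)⁻¹) := by simp [delt, map_div]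
        rw [e, hFfix _ _ (inv_mem (hk u))]; exact inv_mem (hk u) }
  set B0 := B ⊓ P with hB0
  set K := normalClosure (B0 : Set G) with hK
  haveI hKn : K.Normal := normalClosure_normal
  have hB0K : B0 ≤ K := fun b hb => subset_normalClosure hb
  have hKP : K ≤ P := normalClosure_le_normal fun b hb => hb.2
  have hkey : ∀ g : G, ∀ b ∈ B0, g * b * g⁻¹ ∈ Klin := by
    intro g b hb
    let S : Subgroup V :=
      { carrier := {u | ∀ k : G, delt ρ (k * b * k⁻¹) u ∈ F}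
        one_mem' := fun k => by rw [CfsgLib.CFun.delt_one_right]; exact one_mem F
        mul_mem' := fun hu hw k => by
          rw [CfsgLib.CFun.delt_mul_left]; exact mul_mem (hu k) (hw k)
        inv_mem' := fun hu k => by
          rw [CfsgLib.CFun.delt_inv_right]; exact inv_mem (hu k) }
    have hV0S : V0 ≤ S := by
      intro v hv k
      have hmemP : k * b * k⁻¹ ∈ P := hPn.conj_mem b hb.2 k
      have hdV0 : delt ρ (k * b * k⁻¹) v ∈ V0 :=
        div_mem (apply_mem_of_setFix (hV0M (hs.le_M (hPT hmemP))) hv) hv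
      by_cases hk : k ∈ M
      · have : k * b * k⁻¹ ∈ ptFix ρ V0 := conj_mem_ptFix (hV0M hk) (hV0B hb.1)
        show ρ _ v / v ∈ F
        rw [this v hv, div_self']; exact one_mem F
      · exact mem_fixOf.2 fun g _ => hgenfix k hk _ (hV0C hdV0)
          (hqCh k _ (conj_mem_conjBy hb.1) v) g
    have hSinv : ∀ g, ∀ u ∈ S, ρ g u ∈ S := fun g u hu k => by
      have e : delt ρ (k * b * k⁻¹) (ρ g u) = ρ g (delt ρ ((g⁻¹ * k) * b * (g⁻¹ * k)⁻¹) u) := by
        simp only [delt, map_div, map_mul, mul_inv_rev, inv_inv, MulAut.mul_apply, apply_apply_inv]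
      rw [e, hFfix g _ (hu _)]; exact hu _
    have : (⊤ : Subgroup V) ≤ S := hV0 ▸ transl_le fun g _ w hw => hSinv g w (hV0S hw)
    exact fun u => this (mem_top u) g
  have hKlin : ∀ k ∈ K, ∀ u, delt ρ k u ∈ F := by
    have : K ≤ Klin := by
      rw [hK, normalClosure, closure_le]
      intro x hx
      obtain ⟨b, hb, hbx⟩ := Group.mem_conjugatesOfSet_iff.1 hx
      obtain ⟨g, hg⟩ := isConj_iff.1 hbx
      exact hg ▸ hkey g b hb
    exact fun k hk => this hk
  have hKfixF : ∀ k ∈ K, ∀ u, ∀ l ∈ K, ρ l (delt ρ k u) = delt ρ k u :=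
    fun k hk u l _ => hFfix l _ (hKlin k hk u)
  have hK2 : ∀ k ∈ K, k * k = 1 := fun k hk => hρ (MulEquiv.ext fun u => by
    rw [map_one, MulAut.one_apply]
    refine div_eq_one.1 (?_ : delt ρ (k * k) u = 1)
    rw [CfsgLib.CFun.delt_mul, hKfixF k hk u k hk, hs.two])
  -- a section exists
  obtain ⟨g₀, hg₀1, m₀, hm₀, hgm₀⟩ : ∃ g : G, g ≠ 1 ∧ ∃ m : ℕ, Odd m ∧ g ^ m = 1 := by
    by_contra h
    push Not at h
    refine hG2 fun g => ?_
    obtain ⟨e, m, hm, hem⟩ := Nat.exists_eq_two_pow_mul_odd (orderOf_pos g).ne'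
    refine ⟨e, by_contra fun hne => h _ hne m hm ?_⟩
    rw [← pow_mul, ← hem, pow_orderOf_eq_one]
  have hirr_of : ∀ {R1 R : Subgroup V},
      Maximal (fun D : Subgroup V => (∀ g, ∀ u ∈ D, ρ g u ∈ D) ∧ D < R) R1 →
      ∀ D : Subgroup V, (∀ g, ∀ u ∈ D, ρ g u ∈ D) → R1 ≤ D → D ≤ R → D = R1 ∨ D = R := by
    intro R1 R hmax D hD h1 h2
    rcases eq_or_lt_of_le h2 with e | e
    · exact Or.inr e
    · exact Or.inl (le_antisymm (hmax.2 ⟨hD, e⟩ h1) h1)
  rcases eq_or_ne B0 ⊥ with hB00 | hB00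
  · -- `B` is faithful on a section
    obtain ⟨R, ⟨hR, hRne⟩, hRmin⟩ := (Set.toFinite {R : Subgroup V |
        (∀ g, ∀ u ∈ R, ρ g u ∈ R) ∧ ∃ u ∈ R, ρ g₀ u ≠ u}).exists_minimal ⟨⊤, fun _ _ _ => mem_top _, by
      by_contra h
      push Not at h
      exact hg₀1 (hρ (MulEquiv.ext fun u => by rw [map_one, MulAut.one_apply, h u (mem_top u)]))⟩
    have hRbot : (⊥ : Subgroup V) < R := bot_lt_iff_ne_bot.2 fun e => by
      obtain ⟨u, hu, hu'⟩ := hRne
      rw [e, mem_bot] at hu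
      exact hu' (by rw [hu, map_one])
    obtain ⟨R1, hR1⟩ := (Set.toFinite {D : Subgroup V | (∀ g, ∀ u ∈ D, ρ g u ∈ D) ∧ D < R}).exists_maximal
      ⟨⊥, fun g u hu => by rw [mem_bot.1 hu, map_one]; exact one_mem _, hRbot⟩
    have hR1inv : ∀ g, ∀ u ∈ R1, ρ g u ∈ R1 := hR1.1.1
    have hR1lt : R1 < R := hR1.1.2
    have hnt : ∃ g : G, ∃ u ∈ R, delt ρ g u ∉ R1 := by
      by_contra h
      push Not at h
      obtain ⟨u, hu, hu'⟩ := hRne
      have hfix : ∀ w ∈ R1, ρ g₀ w = w := by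
        by_contra h'
        push Not at h'
        exact hR1lt.not_ge (hRmin ⟨hR1inv, h'⟩ hR1lt.le)
      have hpow : ∀ i : ℕ, ρ (g₀ ^ i) u = delt ρ g₀ u ^ i * u := by
        intro i
        induction i with
        | zero => simp
        | succ i ih =>
          rw [pow_succ', map_mul, MulAut.mul_apply, ih, map_mul, map_pow, hfix _ (h g₀ u hu),
            CfsgLib.CFun.delt_apply ρ g₀ u, pow_succ, mul_assoc]
      have h1 := hpow m₀
      rw [hgm₀, map_one, MulAut.one_apply] at h1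
      obtain ⟨j, rfl⟩ := hm₀
      rw [pow_succ, pow_mul, pow_two, hs.two, one_pow, one_mul] at h1
      exact hu' (by rw [CfsgLib.CFun.delt_apply ρ g₀ u, ← h1])
    obtain ⟨hsq, hx2, hB⟩ :=
      hs.section_bound hR hR1inv hR1lt.le (hirr_of hR1) hnt
    set C' := fixMod ρ (B : Set G) R R1 with hC'
    rw [← hB0, hB00, Subgroup.card_bot, one_mul] at hB
    have hC'R : C' ≤ R := fun u hu => hu.1
    have hxC : C'.relIndex R = R1.relIndex C' := by
      refine Nat.eq_of_mul_eq_mul_left (show 0 < R1.relIndex C' by omega) ?_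
      rw [relIndex_mul_relIndex _ _ _ (fun u hu => (mem_fixMod ρ).2 ⟨hR1lt.le hu, fun b _ =>
        div_mem (hR1inv b u hu) hu⟩ : R1 ≤ C') hC'R, hsq, pow_two]
    have h1 : C.relIndex R ≤ C.index := Nat.le_of_dvd
      (Nat.pos_of_ne_zero index_ne_zero_of_finite) (relIndex_dvd_index_of_normal _ _)
    have h2 : C'.relIndex R ≤ (R ⊓ C).relIndex R :=
      Nat.le_of_dvd (Nat.pos_of_ne_zero index_ne_zero_of_finite) (relIndex_dvd_of_le_left R
        fun u hu => ⟨hu.1, fun b hb => by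
          show ρ b u / u ∈ R1
          rw [mem_fixOf.1 hu.2 b hb, div_self']; exact one_mem _⟩)
    rw [inf_relIndex_left, hxC] at h2
    have h3 : C.index ≤ Nat.card B := by
      refine Nat.le_of_mul_le_mul_right ?_ (Nat.card_pos (α := C))
      rw [mul_comm, Subgroup.card_mul_index]
      exact hoff
    omega
  -- the general case
  have hKne : K ≠ ⊥ := fun e => hB00 (le_bot_iff.1 (e ▸ hB0K))
  set R0 := fixOf ρ K with hR0
  have hR0inv : ∀ g, ∀ u ∈ R0, ρ g u ∈ R0 := fun g u hu => mem_fixOf.2 fun k hk => by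
    have := mem_fixOf.1 hu _ (show g⁻¹ * k * g ∈ K by simpa using hKn.conj_mem k hk g⁻¹)
    calc ρ k (ρ g u) = ρ g (ρ (g⁻¹ * k * g) u) := by
          simp only [map_mul, MulAut.mul_apply, apply_apply_inv]
      _ = ρ g u := by rw [this]
  have hFR0 : F ≤ R0 := fun u hu => mem_fixOf.2 fun k _ => hFfix k u hu
  have hB0R0 : B0 ≤ ptFix ρ R0 := hB0K.trans (le_ptFix_iff.2 le_rfl)
  have hstab : ∀ g, ∀ u, delt ρ g u ∈ R0 → ∀ b ∈ B0, ρ b u = u → ρ b (ρ g u) = ρ g u := by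
    intro g u hgu b hb hbu
    rw [CfsgLib.CFun.delt_apply ρ g u, map_mul, hB0R0 hb _ hgu, hbu]
  have hfix0 : ∀ u, (∀ g, delt ρ g u ∈ R0) → u ∈ R0 := by
    have hA : ∀ u, u ∈ C → (∀ g, delt ρ g u ∈ R0) → u ∈ R0 := by
      intro u hu hg
      refine mem_fixOf.2 fun k hk => ?_
      have hle : K ≤ ptFix ρ (zpowers u) := by
        rw [hK, normalClosure, closure_le]
        intro x hx
        obtain ⟨b, hb, hbx⟩ := Group.mem_conjugatesOfSet_iff.1 hx
        obtain ⟨g, rfl⟩ := isConj_iff.1 hbx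
        have hfix : ρ (g * b * g⁻¹) u = u := by
          have := hstab g⁻¹ u (hg _) b hb (mem_fixOf.1 hu b hb.1)
          simp only [map_mul, MulAut.mul_apply]
          rw [this, apply_apply_inv]
        intro w hw
        obtain ⟨j, rfl⟩ := mem_zpowers_iff.1 hw
        rw [map_zpow, hfix]
      exact hle hk u (mem_zpowers u)
    intro u hu
    obtain ⟨c, hc, d, hd, rfl⟩ := mem_sup.1 (hCC.ge (mem_top u))
    let St : Subgroup G :=
      { carrier := {g | delt ρ g c ∈ R0}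
        one_mem' := by show delt ρ 1 c ∈ R0; rw [CfsgLib.CFun.delt_one]; exact one_mem _
        mul_mem' := fun {g k} hg hk => by
          show delt ρ (g * k) c ∈ R0
          rw [CfsgLib.CFun.delt_mul]; exact mul_mem hg (hR0inv g _ hk)
        inv_mem' := fun {g} hg => by
          show delt ρ g⁻¹ c ∈ R0
          have e : delt ρ g⁻¹ c = ρ g⁻¹ ((delt ρ g c)⁻¹) := by simp [delt, map_div]
          rw [e]; exact hR0inv _ _ (inv_mem hg) }
    have hcR : ∀ g, delt ρ g c ∈ R0 := by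
      have : (⊤ : Subgroup G) ≤ St := (hs.gen h₀ hh₀).ge.trans (sup_le (fun b hb => by
        show ρ b c / c ∈ R0
        rw [mem_fixOf.1 hc b hb, div_self']; exact one_mem _) fun g hg => by
        show delt ρ g c ∈ R0
        have h1 := hu g
        rw [CfsgLib.CFun.delt_mul_left, show delt ρ g d = 1 from
          div_eq_one.2 (mem_fixOf.1 hd g hg), mul_one] at h1
        exact h1)
      exact fun g => this (mem_top g)
    refine mul_mem (hA c hc hcR) ?_
    have hdR : ∀ g, delt ρ g d ∈ R0 := fun g => by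
      have h1 := hu g
      rw [CfsgLib.CFun.delt_mul_left] at h1
      exact (mul_mem_cancel_left (hcR g)).1 h1
    have h2 := hA (ρ h₀⁻¹ d) ((hCh _ _).1 hd) fun g => by
      have e : delt ρ g (ρ h₀⁻¹ d) = delt ρ (g * h₀⁻¹) d / delt ρ h₀⁻¹ d := by
        simp [delt, map_mul]
      rw [e]; exact div_mem (hdR _) (hdR _)
    simpa [apply_apply_inv] using hR0inv h₀ _ h2
  -- the measure
  let key : Subgroup V → ℕ := fun D => Nat.card (K ⊓ ptFix ρ D : Subgroup G) * Nat.card D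
  have key_pos : ∀ D, 0 < key D := fun D => Nat.mul_pos Nat.card_pos Nat.card_pos
  have key_mul : ∀ D E, key D * key E ≤ key (D ⊓ E) * key (D ⊔ E) := by
    intro D E
    have h1 := card_mul_card_le (K ⊓ ptFix ρ D) (K ⊓ ptFix ρ E)
    have h2 : K ⊓ ptFix ρ D ⊔ K ⊓ ptFix ρ E ≤ K ⊓ ptFix ρ (D ⊓ E) := sup_le
      (inf_le_inf_left K (ptFix_mono inf_le_left)) (inf_le_inf_left K (ptFix_mono inf_le_right))
    have h3 : (K ⊓ ptFix ρ D) ⊓ (K ⊓ ptFix ρ E) ≤ K ⊓ ptFix ρ (D ⊔ E) := fun k hk =>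
      ⟨hk.1.1, le_ptFix_iff.2 (sup_le (le_ptFix_iff.1 (zpowers_le.2 hk.1.2))
        (le_ptFix_iff.1 (zpowers_le.2 hk.2.2))) (mem_zpowers k)⟩
    calc key D * key E = (Nat.card (K ⊓ ptFix ρ D : Subgroup G) *
          Nat.card (K ⊓ ptFix ρ E : Subgroup G)) * (Nat.card D * Nat.card E) := by
          simp only [key]; ring
      _ ≤ (Nat.card (K ⊓ ptFix ρ (D ⊓ E) : Subgroup G) *
          Nat.card (K ⊓ ptFix ρ (D ⊔ E) : Subgroup G)) *
          (Nat.card (D ⊔ E : Subgroup V) * Nat.card (D ⊓ E : Subgroup V)) := by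
          rw [card_sup_mul_inf]
          exact Nat.mul_le_mul_right _ (h1.trans (Nat.mul_le_mul (card_le_of_le h2)
            (card_le_of_le h3)))
      _ = key (D ⊓ E) * key (D ⊔ E) := by simp only [key]; ring
  have key_map : ∀ g D, key (D.map (ρ g : V ≃* V).toMonoidHom) = key D := by
    intro g D
    have : K ⊓ ptFix ρ (D.map (ρ g : V ≃* V).toMonoidHom) = conjBy g (K ⊓ ptFix ρ D) := by
      rw [ptFix_map]
      ext k
      simp only [mem_inf, mem_conjBy]
      refine ⟨fun h => ⟨by simpa using hKn.conj_mem k h.1 g⁻¹, h.2⟩, fun h => ⟨?_, h.2⟩⟩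
      have := hKn.conj_mem _ h.1 g
      simpa [mul_assoc] using this
    show Nat.card _ * Nat.card _ = Nat.card _ * Nat.card _
    rw [this, card_conjBy, Subgroup.card_map_of_injective (ρ g).injective]
  have exists_max : ∀ lo hi : Subgroup V, (∀ g, ∀ u ∈ lo, ρ g u ∈ lo) →
      (∀ g, ∀ u ∈ hi, ρ g u ∈ hi) → lo ≤ hi →
      ∃ D0 : Subgroup V, (∀ g, ∀ u ∈ D0, ρ g u ∈ D0) ∧ lo ≤ D0 ∧ D0 ≤ hi ∧
        (∀ D, lo ≤ D → D ≤ hi → key D ≤ key D0) ∧
        ∀ D, lo ≤ D → D ≤ hi → key D = key D0 → D0 ≤ D := by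
    intro lo hi hlo hhi hle
    obtain ⟨E, ⟨hE1, hE2⟩, hEmax⟩ := (Set.toFinite {D : Subgroup V | lo ≤ D ∧ D ≤ hi}).exists_maximalFor
      key _ ⟨lo, le_rfl, hle⟩
    have hEm : ∀ D, lo ≤ D → D ≤ hi → key D ≤ key E := fun D h1 h2 => by
      by_contra h
      exact h (hEmax ⟨h1, h2⟩ (le_of_lt (not_le.1 h)))
    obtain ⟨D0, ⟨h01, h02, h03⟩, hmin⟩ := (Set.toFinite
      {D : Subgroup V | lo ≤ D ∧ D ≤ hi ∧ key D = key E}).exists_minimal ⟨E, hE1, hE2, rfl⟩
    have hsmall : ∀ D, lo ≤ D → D ≤ hi → key D = key D0 → D0 ≤ D := by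
      intro D h1 h2 h3
      have hm := key_mul D D0
      rw [h3, h03] at hm
      have ha := hEm (D ⊓ D0) (le_inf h1 h01) (inf_le_left.trans h2)
      have hb := hEm (D ⊔ D0) (h1.trans le_sup_left) (sup_le h2 h02)
      have he : key (D ⊓ D0) = key E := by
        refine le_antisymm ha (Nat.le_of_mul_le_mul_right ?_ (key_pos E))
        exact hm.trans (Nat.mul_le_mul le_rfl hb)
      exact le_trans (hmin ⟨le_inf h1 h01, inf_le_left.trans h2, he⟩ inf_le_right) inf_le_left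
    refine ⟨D0, fun g u hu => ?_, h01, h02, fun D h1 h2 => h03 ▸ hEm D h1 h2, hsmall⟩
    have hmem : D0 ≤ D0.map (ρ g⁻¹ : V ≃* V).toMonoidHom := hsmall _
      (fun w hw => ⟨ρ g w, h01 (hlo g w hw), apply_inv_apply g w⟩)
      (by rintro _ ⟨w, hw, rfl⟩; exact hhi _ _ (h02 hw)) (key_map _ _)
    obtain ⟨w, hw, rfl⟩ := hmem hu
    show ρ g (ρ g⁻¹ w) ∈ D0
    rwa [apply_apply_inv]
  have hR0ne : key R0 < key ⊤ := by
    have h1 : K ⊓ ptFix ρ R0 = K := inf_eq_left.2 (le_ptFix_iff.2 le_rfl)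
    show Nat.card (K ⊓ ptFix ρ R0 : Subgroup G) * Nat.card R0 <
      Nat.card (K ⊓ ptFix ρ ⊤ : Subgroup G) * Nat.card (⊤ : Subgroup V)
    rw [h1, ptFix_top hρ, inf_bot_eq, Subgroup.card_bot, one_mul, Subgroup.card_top]
    exact hyp K hKP hK2 hKne
  obtain ⟨R, ⟨hR, hR0R, hkR⟩, hRmin⟩ := (Set.toFinite {D : Subgroup V |
      (∀ g, ∀ u ∈ D, ρ g u ∈ D) ∧ R0 ≤ D ∧ key R0 < key D}).exists_minimal
    ⟨⊤, fun _ _ _ => mem_top _, le_top, hR0ne⟩
  have hR0lt : R0 < R := lt_of_le_of_ne hR0R fun e => by rw [e] at hkR; exact lt_irrefl _ hkR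
  have hmaxR : ∀ D, R0 ≤ D → D ≤ R → key R ≤ key D → D = R := by
    intro D h1 h2 h3
    obtain ⟨D0, hD0, h01, h02, hmax, hsm⟩ := exists_max R0 R hR0inv hR hR0R
    have hD0R : D0 = R := le_antisymm h02
      (hRmin ⟨hD0, h01, lt_of_lt_of_le hkR (hmax R hR0R le_rfl)⟩ h02)
    refine le_antisymm h2 (hD0R ▸ hsm D h1 h2 (le_antisymm (hmax D h1 h2) ?_))
    rw [hD0R]; exact h3
  obtain ⟨R1, hR1max⟩ := (Set.toFinite {D : Subgroup V |
      ((∀ g, ∀ u ∈ D, ρ g u ∈ D) ∧ D < R) ∧ R0 ≤ D}).exists_maximal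
    ⟨R0, ⟨hR0inv, hR0lt⟩, le_rfl⟩
  obtain ⟨⟨⟨hR1, hR1lt⟩, hR01⟩, hR1max'⟩ := hR1max
  have hirr1 : ∀ D : Subgroup V, (∀ g, ∀ u ∈ D, ρ g u ∈ D) → R1 ≤ D → D ≤ R → D = R1 ∨ D = R :=
    hirr_of ⟨⟨hR1, hR1lt⟩, fun D hD h1 => hR1max' ⟨hD, hR01.trans h1⟩ h1⟩
  have hkR1 : ∀ D, R0 ≤ D → D ≤ R1 → key D ≤ key R0 := by
    intro D h1 h2
    obtain ⟨D0, hD0, h01, h02, hmax, -⟩ := exists_max R0 R1 hR0inv hR1 hR01
    refine (hmax D h1 h2).trans ?_
    by_contra hlt
    exact hR1lt.not_ge ((hRmin ⟨hD0, h01, not_le.1 hlt⟩ (h02.trans hR1lt.le)).trans h02)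
  -- operators into the maximal submodule
  have hzero : ∀ r ∈ span ρ, (∀ u ∈ R, r u ∈ R1) → ∀ u ∈ R, r u ∈ R0 := by
    intro r hr hrR
    set D := R ⊓ R0.comap r with hD
    set I := R.map r ⊔ R0 with hI
    have hR0D : R0 ≤ D := le_inf hR0R fun u hu => span_apply_mem hr hR0inv u hu
    have hIR1 : I ≤ R1 := sup_le (map_le_iff_le_comap.2 hrR) hR01
    have hcount : Nat.card D * Nat.card I = Nat.card R * Nat.card R0 := by
      have e1 : Nat.card D * R0.relIndex (R.map r) = Nat.card R := by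
        rw [← relIndex_comap, ← Subgroup.inf_relIndex_left R, card_mul_relIndex' inf_le_left]
      have e2 : Nat.card R0 * R0.relIndex (R.map r) = Nat.card I := by
        rw [← relIndex_sup_right (H := R.map r), card_mul_relIndex' le_sup_right]
      rw [← e1, ← e2]; ring
    -- the induced map on the linear subgroup
    have hdual : Nat.card K * Nat.card (K ⊓ ptFix ρ R : Subgroup G) ≤
        Nat.card (K ⊓ ptFix ρ D : Subgroup G) * Nat.card (K ⊓ ptFix ρ I : Subgroup G) := by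
      have hX : ∀ k ∈ K, ∃ k' ∈ K ⊓ ptFix ρ D, ∀ u, delt ρ k' u = delt ρ k (r u) := by
        intro k hk
        obtain ⟨k', hk', hku⟩ := span_dual hFfix hKn hKlin hr k hk
        refine ⟨k', ⟨hk', fun u hu => div_eq_one.1 ?_⟩, hku⟩
        show delt ρ k' u = 1
        rw [hku]
        exact div_eq_one.2 (mem_fixOf.1 hu.2 k hk)
      choose φ hφ hφu using hX
      let Z := (K ⊓ ptFix ρ R).subgroupOf (K ⊓ ptFix ρ D)
      let ψ : K ⧸ (ptFix ρ I).subgroupOf K → (K ⊓ ptFix ρ D : Subgroup G) ⧸ Z := fun c =>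
        QuotientGroup.mk ⟨φ c.out c.out.2, hφ _ _⟩
      have hinj : Function.Injective ψ := by
        intro c c' h
        rw [← c.out_eq', ← c'.out_eq']
        refine QuotientGroup.eq.2 ?_
        have h' : (φ c.out c.out.2)⁻¹ * φ c'.out c'.out.2 ∈ K ⊓ ptFix ρ R :=
          (QuotientGroup.eq (s := Z)).1 h
        set a := (c.out : G) with ha
        set b := (c'.out : G) with hb
        set a' := φ a c.out.2 with ha'
        set b' := φ b c'.out.2 with hb'
        show a⁻¹ * b ∈ ptFix ρ I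
        have hrR' : ∀ u ∈ R, ρ (a⁻¹ * b) (r u) = r u := by
          intro u hu
          have hau : ρ (a'⁻¹ * b') u = u := h'.2 u hu
          rw [map_mul, MulAut.mul_apply] at hau ⊢
          have e1 : ρ b' u = ρ a' u := by rw [← hau, apply_apply_inv, hau]
          have e2 : delt ρ b (r u) = delt ρ a (r u) := by
            rw [← hφu b c'.out.2 u, ← hφu a c.out.2 u]
            show ρ b' u / u = ρ a' u / u
            rw [e1]
          have e3 : ρ b (r u) = ρ a (r u) := div_left_injective e2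
          rw [e3, apply_inv_apply]
        refine le_ptFix_iff.2 (sup_le ?_ ?_) (mem_zpowers _)
        · rintro _ ⟨u, hu, rfl⟩
          refine le_ptFix_iff.1 (zpowers_le.2 (?_ : a⁻¹ * b ∈ ptFix ρ (zpowers (r u)))) (mem_zpowers _)
          intro w hw
          obtain ⟨j, rfl⟩ := mem_zpowers_iff.1 hw
          rw [map_zpow, hrR' u hu]
        · exact le_ptFix_iff.1 (zpowers_le.2 ((le_ptFix_iff.2 le_rfl : K ≤ ptFix ρ R0)
            (mul_mem (inv_mem c.out.2) c'.out.2)))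
      have h1 : (ptFix ρ I).relIndex K ≤ (K ⊓ ptFix ρ R).relIndex (K ⊓ ptFix ρ D) :=
        Nat.card_le_card_of_injective ψ hinj
      have e1 : Nat.card (K ⊓ ptFix ρ I : Subgroup G) * (ptFix ρ I).relIndex K = Nat.card K := by
        rw [← Subgroup.inf_relIndex_left K, card_mul_relIndex' inf_le_left]
      have e2 : Nat.card (K ⊓ ptFix ρ R : Subgroup G) *
          (K ⊓ ptFix ρ R).relIndex (K ⊓ ptFix ρ D) = Nat.card (K ⊓ ptFix ρ D : Subgroup G) :=
        card_mul_relIndex' (inf_le_inf_left K (ptFix_mono inf_le_left))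
      rw [← e1, ← e2]
      calc Nat.card (K ⊓ ptFix ρ I : Subgroup G) * (ptFix ρ I).relIndex K *
            Nat.card (K ⊓ ptFix ρ R : Subgroup G)
          = Nat.card (K ⊓ ptFix ρ R : Subgroup G) * (ptFix ρ I).relIndex K *
            Nat.card (K ⊓ ptFix ρ I : Subgroup G) := by ring
        _ ≤ _ := Nat.mul_le_mul_right _ (Nat.mul_le_mul_left _ h1)
    have hmain : key R * key R0 ≤ key D * key I := by
      have h1 : K ⊓ ptFix ρ R0 = K := inf_eq_left.2 (le_ptFix_iff.2 le_rfl)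
      calc key R * key R0 = (Nat.card K * Nat.card (K ⊓ ptFix ρ R : Subgroup G)) *
            (Nat.card R * Nat.card R0) := by simp only [key, h1]; ring
        _ ≤ (Nat.card (K ⊓ ptFix ρ D : Subgroup G) * Nat.card (K ⊓ ptFix ρ I : Subgroup G)) *
            (Nat.card R * Nat.card R0) := Nat.mul_le_mul_right _ hdual
        _ = key D * key I := by rw [← hcount]; simp only [key]; ring
    have hDR : D = R := hmaxR D hR0D inf_le_left (Nat.le_of_mul_le_mul_right
      (hmain.trans (Nat.mul_le_mul le_rfl (hkR1 I le_sup_right hIR1))) (key_pos R0))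
    exact fun u hu => (hDR.ge hu).2
  -- a top factor is nontrivial
  have hntop : ∀ S : Subgroup V, S ≤ R1 → (∀ g, ∀ u ∈ R, delt ρ g u ∈ S) → False := by
    intro S hS h
    refine hR0lt.not_ge fun u hu => hfix0 u fun g => ?_
    have := hzero ((ρ g : V ≃* V).toMonoidHom / MonoidHom.id V) (div_mem (subset_closure ⟨g, rfl⟩)
      span_id) (fun w hw => hS (h g w hw)) u hu
    exact this
  have hnt1 : ∃ g : G, ∃ u ∈ R, delt ρ g u ∉ R1 := by
    by_contra h
    push Not at h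
    exact hntop R1 le_rfl h
  obtain ⟨hsq, hx2, hBx⟩ := hs.section_bound hR hR1 hR1lt.le hirr1 hnt1
  set x := R1.relIndex (fixMod ρ (B : Set G) R R1) with hx
  -- all factors have the same order
  have hpow : ∀ n, ∀ S : Subgroup V, Nat.card S = n → (∀ g, ∀ u ∈ S, ρ g u ∈ S) → R0 ≤ S → S ≤ R →
      ∃ s j : ℕ, R0.relIndex S = (x ^ 2) ^ s ∧ (ptFix ρ S).relIndex K = (x ^ 2) ^ j := by
    intro n
    induction n using Nat.strong_induction_on with
    | _ n ih =>
    intro S hn hS h0 hSR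
    rcases eq_or_lt_of_le h0 with e | e
    · refine ⟨0, 0, ?_, ?_⟩
      · rw [← e, relIndex_self, pow_zero]
      · rw [← e, pow_zero, relIndex_eq_one]; exact le_ptFix_iff.2 le_rfl
    obtain ⟨S1, hS1max⟩ := (Set.toFinite {D : Subgroup V |
        ((∀ g, ∀ u ∈ D, ρ g u ∈ D) ∧ D < S) ∧ R0 ≤ D}).exists_maximal ⟨R0, ⟨hR0inv, e⟩, le_rfl⟩
    obtain ⟨⟨⟨hS1, hS1lt⟩, h01⟩, hmax⟩ := hS1max
    have hirrS : ∀ D : Subgroup V, (∀ g, ∀ u ∈ D, ρ g u ∈ D) → S1 ≤ D → D ≤ S → D = S1 ∨ D = S :=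
      hirr_of ⟨⟨hS1, hS1lt⟩, fun D hD h1 => hmax ⟨hD, h01.trans h1⟩ h1⟩
    have hcardS := factor_card hR hR1 hS1 hS hR1lt.le h01 hS1lt.le hSR hS1lt.ne hirr1 hirrS hzero
    rw [hsq] at hcardS
    obtain ⟨s, j, hsj, hjj⟩ := ih (Nat.card S1) (hn ▸ lt_of_le_of_ne (card_le_of_le hS1lt.le)
      fun e => hS1lt.ne (eq_of_le_of_card_ge hS1lt.le e.ge)) S1 rfl hS1 h01 (hS1lt.le.trans hSR)
    haveI := ptFix_normal (ρ := ρ) hS1
    obtain ⟨i, hi⟩ := pairing_power hs.two hS hS1lt.le hirrS _ F rfl hFfix (K ⊓ ptFix ρ S1)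
      inferInstance (fun k hk => hk.2) (fun k hk u _ => hKlin k hk.1 u)
    refine ⟨s + 1, i + j, ?_, ?_⟩
    · rw [← relIndex_mul_relIndex _ _ _ h01 hS1lt.le, hsj, ← hcardS, ← pow_succ]
    · have h1 : (ptFix ρ S).relIndex (K ⊓ ptFix ρ S1) * (ptFix ρ S1).relIndex K =
          (ptFix ρ S).relIndex K := by
        rw [← inf_relIndex_left K (ptFix ρ S1), ← inf_relIndex_left K (ptFix ρ S),
          ← relIndex_mul_relIndex (K ⊓ ptFix ρ S) (K ⊓ ptFix ρ S1) K
            (inf_le_inf_left K (ptFix_mono hS1lt.le)) inf_le_left]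
        congr 1
        rw [← inf_relIndex_right (ptFix ρ S), ← inf_relIndex_right (K ⊓ ptFix ρ S)]
        congr 1
        refine le_antisymm (fun k hk => ⟨⟨hk.2.1, hk.1⟩, hk.2⟩) (fun k hk => ⟨hk.1.2, hk.2⟩)
      rw [← h1, hi, hjj, ← hcardS, pow_add]
  obtain ⟨s, j, hsR, hjR⟩ := hpow _ R rfl hR hR0R le_rfl
  -- the halves of `R`
  set CR := R ⊓ C ⊔ R0 with hCR
  set CR' := R ⊓ Ch ⊔ R0 with hCR'
  have hCRle : CR ≤ R := sup_le inf_le_left hR0R
  have hCR'le : CR' ≤ R := sup_le inf_le_left hR0R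
  have hsup : CR ⊔ CR' = R := by
    have hd : ∀ g, ∀ u ∈ R, delt ρ g u ∈ R := fun g u hu => div_mem (hR g u hu) hu
    have hle : CR ⊔ CR' ≤ R := sup_le hCRle hCR'le
    have hinv := hgeninv h₀ hh₀ (CR ⊔ CR')
      (fun b hb u hu => mem_sup_left (mem_sup_left ⟨hd b u (hle hu), hqC b hb u⟩))
      (fun d hd' u hu => mem_sup_right (mem_sup_left ⟨hd d u (hle hu), hqCh h₀ d hd' u⟩))
    rcases eq_or_lt_of_le hle with e | e
    · exact e
    exfalso
    obtain ⟨S, ⟨⟨hS, hSlt⟩, hSge⟩, hSmax⟩ := (Set.toFinite {D : Subgroup V |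
      ((∀ g, ∀ u ∈ D, ρ g u ∈ D) ∧ D < R) ∧ CR ⊔ CR' ≤ D}).exists_maximal
      ⟨_, ⟨hinv, e⟩, le_rfl⟩
    let St : Subgroup G :=
      { carrier := {g | ∀ u ∈ R, delt ρ g u ∈ S}
        one_mem' := fun u _ => by rw [CfsgLib.CFun.delt_one]; exact one_mem _
        mul_mem' := fun {g k} hg hk u hu => by
          rw [CfsgLib.CFun.delt_mul]; exact mul_mem (hg u hu) (hS g _ (hk u hu))
        inv_mem' := fun {g} hg u hu => by
          have e : delt ρ g⁻¹ u = ρ g⁻¹ ((delt ρ g u)⁻¹) := by simp [delt, map_div]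
          rw [e]; exact hS _ _ (inv_mem (hg u hu)) }
    have hSt : ∀ g, ∀ u ∈ R, delt ρ g u ∈ S := by
      have : (⊤ : Subgroup G) ≤ St := (hs.gen h₀ hh₀).ge.trans (sup_le
        (fun b hb u hu => hSge (mem_sup_left (mem_sup_left ⟨hd b u hu, hqC b hb u⟩)))
        (fun d hd' u hu => hSge (mem_sup_right (mem_sup_left ⟨hd d u hu, hqCh h₀ d hd' u⟩))))
      exact fun g => this (mem_top g)
    -- `R / S` is a trivial factor of the same order
    have hR0S : R0 ≤ S := le_trans (le_trans le_sup_right le_sup_left) hSge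
    have hirrS : ∀ D : Subgroup V, (∀ g, ∀ u ∈ D, ρ g u ∈ D) → S ≤ D → D ≤ R → D = S ∨ D = R :=
      hirr_of ⟨⟨hS, hSlt⟩, fun D hD h1 => hSmax ⟨hD, hSge.trans h1⟩ h1⟩
    obtain ⟨v, hv, hvS⟩ := SetLike.exists_of_lt hSlt
    have h2 : S.relIndex R = 2 := by
      have hinv' : ∀ g, ∀ u ∈ zpowers v ⊔ S, ρ g u ∈ zpowers v ⊔ S := fun g u hu => by
        have hu' : u ∈ R := sup_le (zpowers_le.2 hv) hSlt.le hu
        rw [CfsgLib.CFun.delt_apply ρ]
        exact mul_mem (mem_sup_right (hSt g u hu')) hu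
      rcases hirrS _ hinv' le_sup_right (sup_le (zpowers_le.2 hv) hSlt.le) with e | e
      · exact absurd (e.le (mem_sup_left (mem_zpowers v))) hvS
      · have hd2 : S.relIndex R ∣ 2 := by
          rw [← e, relIndex_sup_right]
          refine (relIndex_dvd_card _ _).trans ?_
          rw [Nat.card_zpowers]
          exact orderOf_dvd_of_pow_eq_one (by rw [pow_two, hs.two])
        rcases (Nat.dvd_prime Nat.prime_two).1 hd2 with e' | e'
        · exact absurd (relIndex_eq_one.1 e' hv) hvS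
        · exact e'
    have := factor_card hR hR1 hS hR hR1lt.le hR0S hSlt.le le_rfl hSlt.ne hirr1 hirrS hzero
    rw [hsq, h2] at this
    nlinarith
  have hinf : CR ⊓ CR' = R0 := by
    refine le_antisymm (fun u hu => hfix0 u fun g => ?_) (le_inf le_sup_right le_sup_right)
    let St : Subgroup G :=
      { carrier := {g | delt ρ g u ∈ R0}
        one_mem' := by show delt ρ 1 u ∈ R0; rw [CfsgLib.CFun.delt_one]; exact one_mem _
        mul_mem' := fun {g k} hg hk => by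
          show delt ρ (g * k) u ∈ R0
          rw [CfsgLib.CFun.delt_mul]; exact mul_mem hg (hR0inv g _ hk)
        inv_mem' := fun {g} hg => by
          show delt ρ g⁻¹ u ∈ R0
          have e : delt ρ g⁻¹ u = ρ g⁻¹ ((delt ρ g u)⁻¹) := by simp [delt, map_div]
          rw [e]; exact hR0inv _ _ (inv_mem hg) }
    have hmem : ∀ {Z : Subgroup G} {w : V}, w ∈ R ⊓ fixOf ρ Z ⊔ R0 → ∀ b ∈ Z, delt ρ b w ∈ R0 := by
      intro Z w hw b hb
      obtain ⟨y, hy, z, hz, rfl⟩ := mem_sup.1 hw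
      rw [CfsgLib.CFun.delt_mul_left]
      refine mul_mem ?_ (div_mem (hR0inv b z hz) hz)
      show ρ b y / y ∈ R0
      rw [mem_fixOf.1 hy.2 b hb, div_self']; exact one_mem _
    have : (⊤ : Subgroup G) ≤ St := (hs.gen h₀ hh₀).ge.trans
      (sup_le (fun b hb => hmem hu.1 b hb) (fun b hb => hmem hu.2 b hb))
    exact this (mem_top g)
  have hCRmap : CR.map (ρ h₀ : V ≃* V).toMonoidHom = CR' := by
    rw [hCR, hCR', Subgroup.map_sup, map_inf _ _ _ (ρ h₀).injective, hChdef, fixOf_conjBy]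
    have hmapinv : ∀ {D : Subgroup V}, (∀ g, ∀ u ∈ D, ρ g u ∈ D) →
        D.map (ρ h₀ : V ≃* V).toMonoidHom = D := fun {D} hD => le_antisymm
      (by rintro _ ⟨u, hu, rfl⟩; exact hD _ _ hu)
      (fun u hu => ⟨_, hD h₀⁻¹ u hu, apply_apply_inv h₀ u⟩)
    rw [hmapinv hR, hmapinv hR0inv]
  set d := R0.relIndex CR with hd
  have hcardCR : Nat.card CR = Nat.card R0 * d := (card_mul_relIndex' le_sup_right).symm
  have hcardR : Nat.card R = Nat.card R0 * d ^ 2 := by
    have := card_sup_mul_inf CR CR'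
    rw [hsup, hinf, ← hCRmap, Subgroup.card_map_of_injective (ρ h₀).injective, hcardCR] at this
    exact Nat.eq_of_mul_eq_mul_right (Nat.card_pos (α := R0)) (this.trans (by ring))
  have hd2 : R0.relIndex R = d ^ 2 := by
    refine Nat.eq_of_mul_eq_mul_left (Nat.card_pos (α := R0)) ?_
    rw [card_mul_relIndex' hR0R, hcardR]
  have hdx : d = x ^ s := by
    refine Nat.pow_left_injective two_ne_zero ?_
    show d ^ 2 = (x ^ s) ^ 2
    rw [← hd2, hsR, ← pow_mul, ← pow_mul, mul_comm]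
  set Z := K ⊓ ptFix ρ R with hZ
  have hjs : j < s := by
    have h1 : K ⊓ ptFix ρ R0 = K := inf_eq_left.2 (le_ptFix_iff.2 le_rfl)
    have h2 : Nat.card Z * (ptFix ρ R).relIndex K = Nat.card K := by
      rw [hZ, ← Subgroup.inf_relIndex_left K, card_mul_relIndex' inf_le_left]
    have h3 : Nat.card R0 * R0.relIndex R = Nat.card R := card_mul_relIndex' hR0R
    have h4 : (ptFix ρ R).relIndex K < R0.relIndex R := by
      by_contra h
      rw [not_lt] at h
      refine hkR.not_ge ?_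
      show Nat.card Z * Nat.card R ≤ Nat.card (K ⊓ ptFix ρ R0 : Subgroup G) * Nat.card R0
      rw [h1, ← h3, ← h2]
      calc Nat.card Z * (Nat.card R0 * R0.relIndex R) ≤
            Nat.card Z * (Nat.card R0 * (ptFix ρ R).relIndex K) := by gcongr
        _ = _ := by ring
    rw [hsR, hjR] at h4
    exact (Nat.pow_lt_pow_iff_right (by nlinarith)).1 h4
  -- the two conjugates of `B₀` in `K`
  set b := (ptFix ρ R).relIndex B0 with hb
  haveI hptR := ptFix_normal (ρ := ρ) hR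
  have hZn : Z.Normal := inferInstance
  have hbound : b ^ 2 ≤ (ptFix ρ R).relIndex K := by
    set A1 := B0 ⊔ Z with hA1
    have hA1K : A1 ≤ K := sup_le hB0K inf_le_left
    have hA2K : conjBy h₀ A1 ≤ K := conjBy_le_iff.2 fun k hk => hKn.conj_mem k (hA1K hk) h₀
    have hA1fix : A1 ≤ ptFix ρ CR := sup_le (le_ptFix_iff.2 (sup_le
      (fun u hu => mem_fixOf.2 fun c hc => mem_fixOf.1 hu.2 c hc.1) (le_ptFix_iff.1 hB0R0)))
      (inf_le_right.trans (ptFix_mono hCRle))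
    have hA2fix : conjBy h₀ A1 ≤ ptFix ρ CR' := by
      rw [← hCRmap, ptFix_map]; exact conjBy_mono hA1fix
    have hint : A1 ⊓ conjBy h₀ A1 ≤ Z := fun k hk => ⟨hA1K hk.1, by
      have := le_ptFix_iff.2 (sup_le (le_ptFix_iff.1 (zpowers_le.2 (hA1fix hk.1)))
        (le_ptFix_iff.1 (zpowers_le.2 (hA2fix hk.2)))) (mem_zpowers k)
      rwa [hsup] at this⟩
    have hcA1 : Nat.card A1 = Nat.card Z * b := by
      rw [← card_mul_relIndex' (le_sup_right : Z ≤ A1), relIndex_sup_right, hb]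
      congr 1
      rw [hZ, ← inf_relIndex_right (K ⊓ ptFix ρ R), ← inf_relIndex_right (ptFix ρ R)]
      congr 1
      refine le_antisymm (fun k hk => ⟨hk.1.2, hk.2⟩) (fun k hk => ⟨⟨hB0K hk.2, hk.1⟩, hk.2⟩)
    have h1 := card_mul_card_le A1 (conjBy h₀ A1)
    rw [card_conjBy, hcA1] at h1
    have h2 : Nat.card Z * (ptFix ρ R).relIndex K = Nat.card K := by
      rw [hZ, ← Subgroup.inf_relIndex_left K, card_mul_relIndex' inf_le_left]
    have h3 := h1.trans (Nat.mul_le_mul (card_le_of_le (sup_le hA1K hA2K)) (card_le_of_le hint))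
    rw [← h2] at h3
    refine Nat.le_of_mul_le_mul_left ?_ (Nat.mul_pos (Nat.card_pos (α := Z)) (Nat.card_pos (α := Z)))
    calc Nat.card Z * Nat.card Z * b ^ 2 = Nat.card Z * b * (Nat.card Z * b) := by ring
      _ ≤ Nat.card Z * (ptFix ρ R).relIndex K * Nat.card Z := h3
      _ = _ := by ring
  have hbx : b * x ≤ d := by
    rw [hjR, ← pow_mul, mul_comm 2 j, pow_mul] at hbound
    have hb' : b ≤ x ^ j := (Nat.pow_le_pow_iff_left two_ne_zero).1 hbound
    rw [hdx]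
    calc b * x ≤ x ^ j * x := Nat.mul_le_mul_right _ hb'
      _ = x ^ (j + 1) := (pow_succ x j).symm
      _ ≤ x ^ s := Nat.pow_le_pow_right (by omega) hjs
  have hbxR : b * x * Nat.card (R ⊓ C : Subgroup V) ≤ Nat.card R := by
    calc b * x * Nat.card (R ⊓ C : Subgroup V) ≤ d * Nat.card CR :=
          Nat.mul_le_mul hbx (card_le_of_le le_sup_left)
      _ = Nat.card R := by rw [hcardCR, hcardR]; ring
  have hCRcard := card_sup_mul_inf C R
  rw [inf_comm C R] at hCRcard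
  have hbxC : b * x * Nat.card C ≤ Nat.card (C ⊔ R : Subgroup V) := by
    refine Nat.le_of_mul_le_mul_right ?_ (Nat.card_pos (α := (R ⊓ C : Subgroup V)))
    rw [hCRcard]
    calc b * x * Nat.card C * Nat.card (R ⊓ C : Subgroup V)
        = Nat.card C * (b * x * Nat.card (R ⊓ C : Subgroup V)) := by ring
      _ ≤ _ := Nat.mul_le_mul_left _ hbxR
  set B' := B0 ⊓ ptFix ρ R with hB'
  have hB'C : Nat.card B' * Nat.card (C ⊔ R : Subgroup V) ≤ Nat.card V := by
    rcases eq_or_ne B' ⊥ with e | e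
    · rw [e, Subgroup.card_bot, one_mul]; exact Subgroup.card_le_card_group _
    refine le_of_lt (lt_of_le_of_lt (Nat.mul_le_mul_left _ (card_le_of_le (sup_le ?_ ?_)))
      (hyp B' (fun c hc => hc.1.2) (fun c hc => hs.sq c hc.1.1) e))
    · exact fun u hu => mem_fixOf.2 fun c hc => mem_fixOf.1 hu c hc.1.1
    · exact le_ptFix_iff.1 fun c hc => hc.2
  have hB'b : Nat.card B' * b = Nat.card B0 := by
    rw [hb, ← Subgroup.inf_relIndex_left B0, card_mul_relIndex' inf_le_left]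
  have hlast : Nat.card B0 * x * Nat.card C ≤ Nat.card B * Nat.card C := by
    calc Nat.card B0 * x * Nat.card C = Nat.card B' * (b * x * Nat.card C) := by rw [← hB'b]; ring
      _ ≤ Nat.card B' * Nat.card (C ⊔ R : Subgroup V) := Nat.mul_le_mul_left _ hbxC
      _ ≤ Nat.card V := hB'C
      _ ≤ _ := hoff
  exact absurd (Nat.le_of_mul_le_mul_right hlast (Nat.card_pos (α := C))) (not_le.2 hBx)

end CfsgLib.FourFree
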